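import Groth.Agent.QFSectLib.SlicePoint
import Groth.Agent.CMFlatLib.Dense
import Groth.Agent.CMFlatLib.Open
import Groth.Agent.SweepSix.FtPts
import Groth.Agent.SweepSix.FlatCancel
import Groth.Agent.RichLib.QFLocusConstructible
import Mathlib

/-! # Quasi-finite slices of flat equivalence relations -/

set_option autoImplicit false
universe u

open CategoryTheory Limits AlgebraicGeometry Topology

namespace QFSectLib

/-- An equivalence relation on a scheme, on points with values in schemes. -/
structure IsRel {R U : Scheme.{u}} (s t : R ⟶ U) : Prop where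
  mono : ∀ (T : Scheme.{u}) (a b : T ⟶ R), a ≫ s = b ≫ s → a ≫ t = b ≫ t → a = b
  refl : ∃ e : U ⟶ R, e ≫ s = 𝟙 U ∧ e ≫ t = 𝟙 U
  symm : ∀ (T : Scheme.{u}) (a : T ⟶ R), ∃ b : T ⟶ R, b ≫ t = a ≫ s ∧ b ≫ s = a ≫ t
  trans : ∀ (T : Scheme.{u}) (a b : T ⟶ R), a ≫ s = b ≫ t → ∃ c : T ⟶ R, c ≫ t = a ≫ t ∧ c ≫ s = b ≫ s

variable {R U : Scheme.{u}} {s t : R ⟶ U}

theorem IsRel.exists_squares (h : IsRel s t) {U' : Scheme.{u}} (g : U' ⟶ U) :
    ∃ k : pullback (pullback.fst g t) (pullback.fst g t) ⟶ R,
      IsPullback (pullback.fst _ _) k (pullback.snd g t ≫ s) s ∧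
      IsPullback (pullback.snd _ _) k (pullback.snd g t ≫ s) t := by
  let π := pullback.fst g t
  let r₁ := pullback.fst π π ≫ pullback.snd g t
  let r₂ := pullback.snd π π ≫ pullback.snd g t
  have ht : r₁ ≫ t = r₂ ≫ t := by
    simp only [r₁, r₂, Category.assoc, ← pullback.condition]
    rw [← Category.assoc, pullback.condition, Category.assoc]
  obtain ⟨i₂, hi₂t, hi₂s⟩ := h.symm _ r₂
  obtain ⟨k, hkt, hks⟩ := h.trans _ i₂ r₁ (hi₂s.trans ht.symm)
  rw [hi₂t] at hkt
  refine ⟨k, ?_, ?_⟩
  · have w : pullback.fst π π ≫ pullback.snd g t ≫ s = k ≫ s := by rw [hks, Category.assoc]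
    have hex : ∀ c : PullbackCone (pullback.snd g t ≫ s) s, ∃ r : c.pt ⟶ R,
        r ≫ t = c.fst ≫ pullback.fst g t ≫ g ∧ r ≫ s = c.snd ≫ t := fun c => by
      obtain ⟨b, hbt, hbs⟩ := h.symm _ c.snd
      obtain ⟨r, hrt, hrs⟩ := h.trans _ (c.fst ≫ pullback.snd g t) b (by
        rw [hbt, Category.assoc]; exact c.condition)
      exact ⟨r, by rw [hrt, Category.assoc, pullback.condition], hrs.trans hbs⟩
    choose r hrt hrs using hex
    refine IsPullback.of_isLimit' ⟨w⟩ (PullbackCone.IsLimit.mk _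
      (fun c => pullback.lift c.fst (pullback.lift (c.fst ≫ pullback.fst g t) (r c) (by rw [hrt, Category.assoc]))
        (pullback.lift_fst _ _ _).symm)
      (fun c => pullback.lift_fst _ _ _) (fun c => ?_) (fun c m h1 h2 => ?_))
    · refine h.mono _ _ _ ?_ ?_
      · rw [Category.assoc, hks]
        simp only [π, r₁, Category.assoc, pullback.lift_fst_assoc]
        exact c.condition
      · rw [Category.assoc, hkt]
        simp only [π, r₂, Category.assoc, pullback.lift_snd_assoc]
        exact hrs c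
    · apply pullback.hom_ext
      · rw [h1, pullback.lift_fst]
      · rw [pullback.lift_snd]
        apply pullback.hom_ext
        · rw [pullback.lift_fst, Category.assoc, ← pullback.condition, ← Category.assoc, h1]
        · rw [pullback.lift_snd]
          refine h.mono _ _ _ ?_ ?_
          · rw [hrs, ← h2, Category.assoc, Category.assoc, Category.assoc, hkt]
            simp only [r₂, Category.assoc]; rfl
          · rw [hrt, ← h1]
            simp only [Category.assoc, pullback.condition]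
            simpa only [π, r₁, r₂, Category.assoc] using congrArg (fun f => m ≫ f) ht.symm
  · have w : pullback.snd π π ≫ pullback.snd g t ≫ s = k ≫ t := by rw [hkt, Category.assoc]
    have hex : ∀ c : PullbackCone (pullback.snd g t ≫ s) t, ∃ r : c.pt ⟶ R,
        r ≫ t = c.fst ≫ pullback.fst g t ≫ g ∧ r ≫ s = c.snd ≫ s := fun c => by
      obtain ⟨r, hrt, hrs⟩ := h.trans _ (c.fst ≫ pullback.snd g t) c.snd (by
        rw [Category.assoc]; exact c.condition)
      exact ⟨r, by rw [hrt, Category.assoc, pullback.condition], hrs⟩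
    choose r hrt hrs using hex
    refine IsPullback.of_isLimit' ⟨w⟩ (PullbackCone.IsLimit.mk _
      (fun c => pullback.lift (pullback.lift (c.fst ≫ pullback.fst g t) (r c) (by rw [hrt, Category.assoc])) c.fst
        (pullback.lift_fst _ _ _))
      (fun c => pullback.lift_snd _ _ _) (fun c => ?_) (fun c m h1 h2 => ?_))
    · refine h.mono _ _ _ ?_ ?_
      · rw [Category.assoc, hks]
        simp only [π, r₁, Category.assoc, pullback.lift_fst_assoc, pullback.lift_snd_assoc]
        exact hrs c
      · rw [Category.assoc, hkt]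
        simp only [π, r₂, Category.assoc, pullback.lift_snd_assoc]
        exact c.condition
    · apply pullback.hom_ext
      · rw [pullback.lift_fst]
        apply pullback.hom_ext
        · rw [pullback.lift_fst, Category.assoc, pullback.condition, ← Category.assoc, h1]
        · rw [pullback.lift_snd]
          refine h.mono _ _ _ ?_ ?_
          · rw [hrs, ← h2, Category.assoc, Category.assoc, Category.assoc, hks]
            simp only [r₁, Category.assoc]; rfl
          · rw [hrt, ← h1]
            simp only [Category.assoc, pullback.condition]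
            simpa only [π, r₁, r₂, Category.assoc] using congrArg (fun f => m ≫ f) ht
      · rw [h1, pullback.lift_snd]

/-- Flat and quasi-finite at a point. -/
def GoodAt {X Y : Scheme.{u}} (f : X ⟶ Y) (x : X) : Prop := (f.stalkMap x).hom.Flat ∧ f.QuasiFiniteAt x

/-- Goodness does not depend on the point of `g ×_{U,t} R` over a point of the source of `g`. -/
theorem goodAt_of_squares [Flat t] [LocallyOfFinitePresentation t]
    [LocallyOfFinitePresentation s] {U' : Scheme.{u}} (g : U' ⟶ U) [LocallyOfFinitePresentation g]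
    (k : pullback (pullback.fst g t) (pullback.fst g t) ⟶ R)
    (hsq₁ : IsPullback (pullback.fst _ _) k (pullback.snd g t ≫ s) s)
    (hsq₂ : IsPullback (pullback.snd _ _) k (pullback.snd g t ≫ s) t)
    {Y : Scheme.{u}} (j : Y ⟶ pullback g t) [IsOpenImmersion j] [Flat (j ≫ pullback.snd g t ≫ s)]
    [LocallyQuasiFinite (j ≫ pullback.snd g t ≫ s)] (y : Y) (x' : ↑(pullback g t))
    (hx : pullback.fst g t x' = pullback.fst g t (j y)) : GoodAt (pullback.snd g t ≫ s) x' := by
  let a := pullback.fst (pullback.fst g t) (pullback.fst g t)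
  let b := pullback.snd (pullback.fst g t) (pullback.fst g t)
  obtain ⟨z, hza, hzb⟩ := Scheme.Pullback.exists_preimage_pullback (f := pullback.fst g t) (g := pullback.fst g t)
    (j y) x' hx.symm
  let h := pullback.snd g t ≫ s
  haveI : LocallyOfFiniteType h := inferInstance
  have hgood : GoodAt h (j y) := by
    refine ⟨?_, ?_⟩
    · exact (SweepSix.flat_stalkMap_comp_iff j h y (Flat.stalkMap j y)).1 (Flat.stalkMap (j ≫ h) y)
    · exact Scheme.Hom.quasiFiniteAt_comp_iff_of_isOpenImmersion.1 ((j ≫ h).quasiFiniteAt y)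
  have hkflat : (k.stalkMap z).hom.Flat := by
    have hp := (IsPullback.of_hasPullback a j).flip.paste_vert hsq₁
    haveI : Flat (pullback.fst a j ≫ k) := MorphismProperty.of_isPullback hp ‹_›
    obtain ⟨w, hwz, -⟩ := Scheme.Pullback.exists_preimage_pullback (f := a) (g := j) z y hza
    have := (SweepSix.flat_stalkMap_comp_iff (pullback.fst a j) k w (Flat.stalkMap _ w)).1
      (Flat.stalkMap (pullback.fst a j ≫ k) w)
    exact hwz ▸ this
  have hqf : k.QuasiFiniteAt z := by
    rw [RichLib.QFLocus.quasiFiniteAt_iff_of_isPullback hsq₁]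
    exact hza.symm ▸ hgood.2
  refine hzb ▸ ⟨?_, (RichLib.QFLocus.quasiFiniteAt_iff_of_isPullback hsq₂ z).1 hqf⟩
  have hbflat : (b.stalkMap z).hom.Flat := by
    haveI : Flat b := MorphismProperty.of_isPullback hsq₂.flip inferInstance
    exact Flat.stalkMap b z
  refine (SweepSix.flat_stalkMap_comp_iff b h z hbflat).1 ?_
  rw [show b ≫ h = k ≫ t from hsq₂.w]
  exact (SweepSix.flat_stalkMap_comp_iff k t z hkflat).2 (Flat.stalkMap t _)

theorem isClosed_asFiber_of_lft {X Y : Scheme.{u}} (f : X ⟶ Y) [LocallyOfFiniteType f] {x : X}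
    (hx : LocallyOfFiniteType (X.fromSpecResidueField x)) : IsClosed ({f.asFiber x} : Set (f.fiber (f x))) := by
  haveI : LocallyOfFiniteType (f.fiberToSpecResidueField (f x)) := MorphismProperty.pullback_snd _ _ ‹_›
  haveI : JacobsonSpace (f.fiber (f x)) := LocallyOfFiniteType.jacobsonSpace (f.fiberToSpecResidueField (f x))
  obtain ⟨O, -, hxO, hc⟩ := (SweepSix.mem_iff x).1 hx
  have h1 := hc.isLocallyClosed.image (f := (Subtype.val : O → X)) Topology.IsInducing.subtypeVal
    (Subtype.range_coe.symm ▸ O.2.isLocallyClosed)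
  rw [Set.image_singleton] at h1
  refine isClosed_singleton_of_isLocallyClosed_singleton ?_
  have h2 := h1.preimage (f.fiberι (f x)).continuous
  rwa [show (f.fiberι (f x)) ⁻¹' {x} = {f.asFiber x} by
    ext z
    refine ⟨fun h => (f.fiberι (f x)).isEmbedding.injective (h.trans (f.fiberι_asFiber x).symm), ?_⟩
    rintro rfl
    exact f.fiberι_asFiber x] at h2

/-- A slice through some point over a finite type point. -/
theorem exists_slice_over [Flat s] [LocallyOfFinitePresentation s] [Surjective s]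
    [LocallyOfFiniteType t] {S₀ : Scheme.{u}} (pU : U ⟶ S₀) (hw : t ≫ pU = s ≫ pU)
    [LocallyOfFiniteType (pullback.lift t s hw)] [LocallyQuasiFinite (pullback.lift t s hw)] (u : U) (hu : LocallyOfFiniteType (U.fromSpecResidueField u)) :
    ∃ (Z : Scheme.{u}) (g : Z ⟶ U) (_ : LocallyOfFinitePresentation g) (Y : Scheme.{u}) (j : Y ⟶ pullback g t),
      IsOpenImmersion j ∧ Flat (j ≫ pullback.snd g t ≫ s) ∧ LocallyQuasiFinite (j ≫ pullback.snd g t ≫ s) ∧
      ∃ y : Y, (j ≫ pullback.snd g t ≫ s) y = u := by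
  have hu' : IsLocallyClosed ({u} : Set U) := by
    obtain ⟨O, -, huO, hc⟩ := (SweepSix.mem_iff u).1 hu
    have h1 := hc.isLocallyClosed.image (f := (Subtype.val : O → U)) Topology.IsInducing.subtypeVal
      (Subtype.range_coe.symm ▸ O.2.isLocallyClosed)
    rwa [Set.image_singleton] at h1
  have hne : (s ⁻¹' {u} ∩ {r | MoreMor.IsCMAt s r}).Nonempty := by
    obtain ⟨r, hse⟩ := s.surjective u
    haveI : Nonempty (s.fiber (s r) : Scheme.{u}) := ⟨s.asFiber r⟩
    obtain ⟨z, hz⟩ := (CMFlatLib.dense_fiberι_preimage_isCMAt s (s r)).nonempty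
    exact ⟨s.fiberι _ z, ((Set.ext_iff.mp (s.range_fiberι _) _).mp ⟨z, rfl⟩).trans hse, hz⟩
  obtain ⟨p, ⟨hpu, hcm⟩, hp⟩ := SweepSix.nonempty_inter
    ((hu'.preimage s.continuous).inter (CMFlatLib.isOpen_isCMAt s).isLocallyClosed) hne
  obtain ⟨V, hV, hpV, hc⟩ := (SweepSix.mem_iff (t p)).1 (SweepSix.image_mem t hp)
  have hmax : (hV.primeIdealOf ⟨t p, hpV⟩).asIdeal.IsMaximal := by
    rw [← PrimeSpectrum.isClosed_singleton_iff_isMaximal]
    have h2 := (hV.isoSpec.hom.homeomorph.isClosedMap _ hc)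
    rwa [Set.image_singleton] at h2
  obtain ⟨Z, g, hg, -, Y, j, hj, h1, h2, y, hy⟩ := exists_slice_point s t pU hw p (Scheme.Hom.quasiFiniteAt _ p) hcm
    (isClosed_asFiber_of_lft s hp) hV hpV hmax
  refine ⟨Z, g, hg, Y, j, hj, h1, h2, y, ?_⟩
  rw [Scheme.Hom.comp_apply, Scheme.Hom.comp_apply, hy]
  exact hpu

/-- A flat, locally finitely presented equivalence relation has quasi-finite slices. -/
theorem exists_qf_slices (hrel : IsRel s t) [Flat s] [LocallyOfFinitePresentation s] [Flat t]
    [LocallyOfFinitePresentation t] :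
    ∃ (U' : Scheme.{u}) (g : U' ⟶ U), LocallyOfFinitePresentation g ∧ Flat (pullback.snd g t ≫ s) ∧
      LocallyOfFinitePresentation (pullback.snd g t ≫ s) ∧
      LocallyQuasiFinite (pullback.snd g t ≫ s) ∧ Surjective (pullback.snd g t ≫ s) := by
  let ι := {u : U // LocallyOfFiniteType (U.fromSpecResidueField u)}
  haveI : Surjective s := by
    obtain ⟨e, hes, -⟩ := hrel.refl
    exact ⟨fun u => ⟨e u, by rw [← Scheme.Hom.comp_apply, hes]; rfl⟩⟩
  let pU := terminal.from U
  have hw : t ≫ pU = s ≫ pU := Subsingleton.elim _ _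
  haveI : LocallyOfFiniteType (pullback.lift t s hw) := by
    haveI : LocallyOfFiniteType (pullback.lift t s hw ≫ pullback.snd pU pU) := by
      rw [pullback.lift_snd]; infer_instance
    exact locallyOfFiniteType_of_comp _ (pullback.snd pU pU)
  haveI : Mono (pullback.lift t s hw) := ⟨fun a b hab => hrel.mono _ a b
    (by
      have := congrArg (· ≫ pullback.snd pU pU) hab
      simp only [Category.assoc] at this
      erw [pullback.lift_snd] at this
      exact this)
    (by
      have := congrArg (· ≫ pullback.fst pU pU) hab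
      simp only [Category.assoc] at this
      erw [pullback.lift_fst] at this
      exact this)⟩
  choose Z g hg Y j hj hfl hqf y hy using fun u : ι => exists_slice_over (s := s) (t := t) pU hw u.1 u.2
  let g₀ : (∐ Z) ⟶ U := Sigma.desc g
  haveI : LocallyOfFinitePresentation g₀ := IsZariskiLocalAtSource.sigmaDesc hg
  let m : ∀ u : ι, pullback (g u) t ⟶ pullback g₀ t := fun u =>
    pullback.map (g u) t g₀ t (Sigma.ι Z u) (𝟙 R) (𝟙 U) (by simp [g₀]) (by simp)
  haveI : ∀ u, IsOpenImmersion (m u) := fun u => inferInstance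
  have hjm : ∀ u, (j u ≫ m u) ≫ pullback.snd g₀ t ≫ s = j u ≫ pullback.snd (g u) t ≫ s := fun u => by
    simp only [m, pullback.map, Category.assoc]
    erw [pullback.lift_snd_assoc]
    rw [Category.comp_id]
  haveI : LocallyOfFinitePresentation (pullback.fst g₀ t) := MorphismProperty.pullback_fst _ _ ‹_›
  let V : (∐ Z : Scheme.{u}).Opens := ⟨pullback.fst g₀ t '' ⋃ u, Set.range (j u ≫ m u),
    (pullback.fst g₀ t).isOpenMap _ (isOpen_iUnion fun u => by
      haveI := hj u
      exact (j u ≫ m u).isOpenEmbedding.isOpen_range)⟩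
  let g' := V.ι ≫ g₀
  let M : pullback g' t ⟶ pullback g₀ t := pullback.map g' t g₀ t V.ι (𝟙 R) (𝟙 U) (by simp [g']) (by simp)
  have hM : M ≫ pullback.snd g₀ t ≫ s = pullback.snd g' t ≫ s := by
    simp only [M, pullback.map]
    erw [pullback.lift_snd_assoc]
    rw [Category.comp_id]
  have hgood : ∀ x, GoodAt (pullback.snd g' t ≫ s) x := by
    intro x
    have h1 : pullback.fst g₀ t (M x) ∈ V := by
      rw [← Scheme.Hom.comp_apply, pullback.lift_fst, Scheme.Hom.comp_apply]
      exact (pullback.fst g' t x).2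
    obtain ⟨w, hw, hwx⟩ := h1
    obtain ⟨u, z, rfl⟩ := Set.mem_iUnion.1 hw
    haveI := hj u
    haveI : Flat ((j u ≫ m u) ≫ pullback.snd g₀ t ≫ s) := (hjm u).symm ▸ hfl u
    haveI : LocallyQuasiFinite ((j u ≫ m u) ≫ pullback.snd g₀ t ≫ s) := (hjm u).symm ▸ hqf u
    obtain ⟨k, hk₁, hk₂⟩ := hrel.exists_squares g₀
    obtain ⟨f1, f2⟩ := goodAt_of_squares g₀ k hk₁ hk₂ (j u ≫ m u) z (M x) hwx.symm
    rw [← hM]
    exact ⟨(SweepSix.flat_stalkMap_comp_iff M _ x (Flat.stalkMap M x)).2 f1,
      Scheme.Hom.quasiFiniteAt_comp_iff_of_isOpenImmersion.2 f2⟩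
  haveI : Flat (pullback.snd g' t ≫ s) := Flat.of_stalkMap _ fun x => (hgood x).1
  haveI : LocallyOfFinitePresentation g' := inferInstance
  haveI hfp : LocallyOfFinitePresentation (pullback.snd g' t ≫ s) := inferInstance
  refine ⟨V, g', inferInstance, inferInstance, hfp, ?_, ⟨?_⟩⟩
  · rw [← Scheme.Hom.quasiFiniteLocus_eq_top_iff, eq_top_iff]
    exact fun x _ => (hgood x).2
  · let h := pullback.snd g' t ≫ s
    by_contra hns
    obtain ⟨v, hv⟩ := not_forall.1 hns
    obtain ⟨u, hu, huft⟩ := SweepSix.nonempty_inter (Z := (Set.range h)ᶜ)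
      h.isOpenMap.isOpen_range.isClosed_compl.isLocallyClosed ⟨v, hv⟩
    refine hu ?_
    let u' : ι := ⟨u, huft⟩
    haveI := hj u'
    have hzV : pullback.fst g₀ t ((j u' ≫ m u') (y u')) ∈ V :=
      ⟨_, Set.mem_iUnion.2 ⟨u', y u', rfl⟩, rfl⟩
    have hrange : (j u' ≫ m u') (y u') ∈ Set.range M := by
      rw [Scheme.Pullback.range_map]
      refine ⟨⟨⟨_, hzV⟩, rfl⟩, ⟨_, rfl⟩⟩
    obtain ⟨x, hx⟩ := hrange
    refine ⟨x, ?_⟩
    show (pullback.snd g' t ≫ s) x = u
    rw [← hM, Scheme.Hom.comp_apply, hx, ← Scheme.Hom.comp_apply, hjm]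
    exact hy u'

end QFSectLib
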