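import Groth.Agent.QFSectLib.SliceRel
import Groth.Agent.FlatLib.FibreStalk
import Groth.Agent.FlatLib.SchemeFlat
import Groth.Agent.SMTLib.CMQuot
import Groth.Agent.SweepSix.FtPts
import Groth.Prelude.Def_MoreMor

/-! # Slicing a pair of maps at a closed Cohen-Macaulay point -/

set_option autoImplicit false
universe u

open CategoryTheory Limits AlgebraicGeometry

namespace QFSectLib

theorem isPushout_quotient {A B : Type u} [CommRing A] [CommRing B] (τ : A →+* B) (I : Ideal A) :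
    IsPushout (CommRingCat.ofHom (Ideal.Quotient.mk I)) (CommRingCat.ofHom τ)
      (CommRingCat.ofHom (Ideal.quotientMap (I.map τ) τ Ideal.le_comap_map))
      (CommRingCat.ofHom (Ideal.Quotient.mk (I.map τ))) := by
  refine IsPushout.of_isColimit' ⟨by ext a; simp⟩ (PushoutCocone.IsColimit.mk _ (fun s => CommRingCat.ofHom
    (Ideal.Quotient.lift (I.map τ) s.inr.hom fun b hb => ?_)) (fun s => ?_) (fun s => ?_) (fun s m _ h2 => ?_))
  · have hle : I.map τ ≤ RingHom.ker s.inr.hom := Ideal.map_le_iff_le_comap.2 fun a ha => by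
      show s.inr.hom (τ a) = 0
      rw [show s.inr.hom (τ a) = s.inl.hom (Ideal.Quotient.mk I a) from
        (RingHom.congr_fun (congrArg CommRingCat.Hom.hom s.condition) a).symm, Ideal.Quotient.eq_zero_iff_mem.2 ha,
        map_zero]
    exact hle hb
  · ext a
    exact (RingHom.congr_fun (congrArg CommRingCat.Hom.hom s.condition) a).symm
  · ext b
    rfl
  · ext b
    exact RingHom.congr_fun (congrArg CommRingCat.Hom.hom h2) b

theorem isPullback_comp_mono {C : Type*} [Category C] {P X Y Z W : C} {a : P ⟶ X} {b : P ⟶ Y} {c : X ⟶ Z}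
    {d : Y ⟶ Z} (h : IsPullback a b c d) (i : Z ⟶ W) [Mono i] : IsPullback a b (c ≫ i) (d ≫ i) :=
  IsPullback.of_isLimit' ⟨by rw [← Category.assoc, h.w, Category.assoc]⟩
    (PullbackCone.IsLimit.mk _
      (fun s => h.lift s.fst s.snd ((cancel_mono i).1 (by simpa using s.condition)))
      (fun s => h.lift_fst _ _ _) (fun s => h.lift_snd _ _ _)
      (fun s m h1 h2 => h.hom_ext (h1.trans (h.lift_fst _ _ _).symm) (h2.trans (h.lift_snd _ _ _).symm)))

/-- Maps from the spectrum of a field are detected on a ring into which it injects. -/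
theorem hom_ext_of_injective {L D : Type u} [Field L] [CommRing D] [Nontrivial D] (ι : L →+* D) {S : Scheme.{u}}
    (a b : Spec (CommRingCat.of L) ⟶ S)
    (h : Spec.map (CommRingCat.ofHom ι) ≫ a = Spec.map (CommRingCat.ofHom ι) ≫ b) : a = b := by
  obtain ⟨x⟩ : Nonempty (Spec (CommRingCat.of D)) := inferInstanceAs (Nonempty (PrimeSpectrum D))
  haveI : Subsingleton ↥(Spec (CommRingCat.of L)) := inferInstanceAs (Subsingleton (PrimeSpectrum L))
  obtain ⟨V, hV, hzV, -⟩ := exists_isAffineOpen_mem_and_subset (X := S)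
    (x := a (IsLocalRing.closedPoint L)) (U := ⊤) trivial
  have hab : ∀ w, b w = a (IsLocalRing.closedPoint L) := fun w => by
    have := congrArg (fun f : Spec (CommRingCat.of D) ⟶ S => f x) h
    simp only [Scheme.Hom.comp_apply] at this
    rw [Subsingleton.elim (IsLocalRing.closedPoint L) (Spec.map (CommRingCat.ofHom ι) x), this]
    congr 1
    exact Subsingleton.elim _ _
  have hfac : ∀ c : Spec (CommRingCat.of L) ⟶ S, (∀ w, c w ∈ V) → ∃ φ, Spec.map φ ≫ hV.fromSpec = c := fun c hc => by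
    obtain ⟨φ, hφ⟩ := Spec.map_surjective (IsOpenImmersion.lift hV.fromSpec c
      (by rw [hV.range_fromSpec]; rintro _ ⟨w, rfl⟩; exact hc w))
    exact ⟨φ, by rw [hφ, IsOpenImmersion.lift_fac]⟩
  obtain ⟨φa, rfl⟩ := hfac a fun w => by rw [Subsingleton.elim w (IsLocalRing.closedPoint L)]; exact hzV
  obtain ⟨φb, rfl⟩ := hfac b fun w => by rw [hab]; exact hzV
  rw [← Category.assoc, ← Category.assoc, ← Spec.map_comp, ← Spec.map_comp, cancel_mono] at h
  congr 2
  ext v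
  exact ι.injective (ConcreteCategory.congr_hom (Spec.map_injective h) v)

/-- Factorisations through a field force equal images under the pair. -/
theorem j_eq_of_factor {R U S₀ : Scheme.{u}} (s t : R ⟶ U) (pU : U ⟶ S₀) (hw : t ≫ pU = s ≫ pU) (p : R)
    
    {V U₀ : U.Opens} (hV : IsAffineOpen V) (hU₀ : IsAffineOpen U₀) {B : R.Opens} (hB : IsAffineOpen B)
    (hBU : B ≤ s ⁻¹ᵁ U₀) (hBV : B ≤ t ⁻¹ᵁ V) (hpB : p ∈ B) (D L : Type u) [CommRing D] [Field L]
    (ψ : Γ(R, B) →+* D) (ι : L →+* D) (ρ : Γ(U, U₀) →+* L) (σ : Γ(U, V) →+* L) (x y : PrimeSpectrum D)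
    (h1 : ψ.comp (s.appLE U₀ B hBU).hom = ι.comp ρ) (h2 : ψ.comp (t.appLE V B hBV).hom = ι.comp σ)
    (hy : PrimeSpectrum.comap ψ y = hB.primeIdealOf ⟨p, hpB⟩)
    : pullback.lift t s hw (hB.fromSpec (PrimeSpectrum.comap ψ x)) = pullback.lift t s hw p := by
  haveI : Nontrivial D := y.nontrivial
  let a := Spec.map (CommRingCat.ofHom ψ) ≫ hB.fromSpec
  let π := Spec.map (CommRingCat.ofHom ι)
  have key : ∀ {W : U.Opens} (hW : IsAffineOpen W) (f : R ⟶ U) (hf : B ≤ f ⁻¹ᵁ W) (η : Γ(U, W) →+* L)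
      (_ : ψ.comp (f.appLE W B hf).hom = ι.comp η),
      a ≫ f = π ≫ Spec.map (CommRingCat.ofHom η) ≫ hW.fromSpec := fun hW f hf η he => by
    show (_ ≫ hB.fromSpec) ≫ f = _
    rw [Category.assoc, ← IsAffineOpen.SpecMap_appLE_fromSpec f hW hB hf, ← Spec.map_comp_assoc,
      ← Spec.map_comp_assoc]
    congr 2
    ext v
    exact RingHom.congr_fun he v
  let ρ' := Spec.map (CommRingCat.ofHom ρ) ≫ hU₀.fromSpec
  let σ' := Spec.map (CommRingCat.ofHom σ) ≫ hV.fromSpec
  have e1 : a ≫ s = π ≫ ρ' := key hU₀ s hBU ρ h1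
  have e2 : a ≫ t = π ≫ σ' := key hV t hBV σ h2
  have hST : σ' ≫ pU = ρ' ≫ pU := hom_ext_of_injective ι _ _ (by
    rw [← reassoc_of% e1, ← reassoc_of% e2, hw])
  let j := pullback.lift t s hw
  have ej : a ≫ j = π ≫ pullback.lift σ' ρ' hST := by
    apply pullback.hom_ext
    · simp only [Category.assoc]
      erw [pullback.lift_fst, pullback.lift_fst]
      exact e2
    · simp only [Category.assoc]
      erw [pullback.lift_snd, pullback.lift_snd]
      exact e1
  have hjx : ∀ w, j (a w) = pullback.lift σ' ρ' hST (π w) := fun w => by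
    rw [← Scheme.Hom.comp_apply, ej, Scheme.Hom.comp_apply]
  haveI : Subsingleton ↥(Spec (CommRingCat.of L)) := inferInstanceAs (Subsingleton (PrimeSpectrum L))
  have hay : a y = p := by
    show hB.fromSpec (PrimeSpectrum.comap ψ y) = p
    rw [hy, hB.fromSpec_primeIdealOf]
  show j (a x) = j p
  rw [← hay, hjx, hjx]
  congr 1
  exact Subsingleton.elim _ _

/-- Factorisations through a field force equal images of generizations at a quasi-finite point of the pair. -/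
theorem sep_test {R U S₀ : Scheme.{u}} (s t : R ⟶ U) (pU : U ⟶ S₀) (hw : t ≫ pU = s ≫ pU) (p : R)
    [LocallyOfFiniteType (pullback.lift t s hw)] (hqf : (pullback.lift t s hw).QuasiFiniteAt p)
    {V U₀ : U.Opens} (hV : IsAffineOpen V) (hU₀ : IsAffineOpen U₀) {B : R.Opens} (hB : IsAffineOpen B)
    (hBU : B ≤ s ⁻¹ᵁ U₀) (hBV : B ≤ t ⁻¹ᵁ V) (hpB : p ∈ B) (D L : Type u) [CommRing D] [Field L]
    (ψ : Γ(R, B) →+* D) (ι : L →+* D) (ρ : Γ(U, U₀) →+* L) (σ : Γ(U, V) →+* L) (x y : PrimeSpectrum D)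
    (h1 : ψ.comp (s.appLE U₀ B hBU).hom = ι.comp ρ) (h2 : ψ.comp (t.appLE V B hBV).hom = ι.comp σ)
    (hy : PrimeSpectrum.comap ψ y = hB.primeIdealOf ⟨p, hpB⟩)
    (hx : (PrimeSpectrum.comap ψ x).asIdeal ≤ (hB.primeIdealOf ⟨p, hpB⟩).asIdeal) :
    PrimeSpectrum.comap ψ x = hB.primeIdealOf ⟨p, hpB⟩ := by
  let a := Spec.map (CommRingCat.ofHom ψ) ≫ hB.fromSpec
  let j := pullback.lift t s hw
  have hax : a x ⤳ p := by
    have := ((PrimeSpectrum.le_iff_specializes _ _).1 hx).map hB.fromSpec.continuous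
    rw [hB.fromSpec_primeIdealOf] at this
    exact this
  have hjp : j (a x) = j p := j_eq_of_factor s t pU hw p hV hU₀ hB hBU hBV hpB D L ψ ι ρ σ x y h1 h2 hy
  obtain ⟨z, hz⟩ : a x ∈ Set.range (j.fiberι (j p)) := by
    rw [j.range_fiberι]; exact hjp
  have hzp : z = j.asFiber p := ((SweepSix.quasiFiniteAt_iff j p).1 hqf).2 z (by
    rw [← (j.fiberι (j p)).isEmbedding.isInducing.specializes_iff, j.fiberι_asFiber, hz]
    exact hax)
  refine hB.fromSpec.isOpenEmbedding.injective ?_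
  rw [hB.fromSpec_primeIdealOf]
  show a x = p
  rw [← hz, hzp, j.fiberι_asFiber]

/-- Slicing. -/
theorem exists_slice_point {R U : Scheme.{u}} (s t : R ⟶ U) [Flat s] [LocallyOfFinitePresentation s]
    {S₀ : Scheme.{u}} (pU : U ⟶ S₀) (hw : t ≫ pU = s ≫ pU) [LocallyOfFiniteType (pullback.lift t s hw)]
    (p : R) (hqfj : (pullback.lift t s hw).QuasiFiniteAt p) (hcm : MoreMor.IsCMAt s p) (hcl : IsClosed ({s.asFiber p} : Set ↑(s.fiber (s p))))
    {V : U.Opens} (hV : IsAffineOpen V) (hpV : t p ∈ V) (hmax : (hV.primeIdealOf ⟨t p, hpV⟩).asIdeal.IsMaximal) :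
    ∃ (Z : Scheme.{u}) (g : Z ⟶ U) (_ : LocallyOfFinitePresentation g) (_ : IsImmersion g) (Y : Scheme.{u}) (j : Y ⟶ pullback g t),
      IsOpenImmersion j ∧ Flat (j ≫ pullback.snd g t ≫ s) ∧ LocallyQuasiFinite (j ≫ pullback.snd g t ≫ s) ∧
      ∃ y : Y, pullback.snd g t (j y) = p := by
  obtain ⟨hflat, hcm⟩ := hcm
  obtain ⟨_, ⟨U₀, hU₀, rfl⟩, hpU₀, -⟩ :=
    U.isBasis_affineOpens.exists_subset_of_mem_open (Set.mem_univ (s p)) isOpen_univ
  obtain ⟨_, ⟨B, hB, rfl⟩, hpB, hBsub⟩ := R.isBasis_affineOpens.exists_subset_of_mem_open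
    (show p ∈ (s ⁻¹ᵁ U₀ ⊓ t ⁻¹ᵁ V : R.Opens) from ⟨hpU₀, hpV⟩) (s ⁻¹ᵁ U₀ ⊓ t ⁻¹ᵁ V).2
  have hBU : B ≤ s ⁻¹ᵁ U₀ := fun z hz ↦ (hBsub hz).1
  have hBV : B ≤ t ⁻¹ᵁ V := fun z hz ↦ (hBsub hz).2
  have hfp := s.finitePresentation_appLE hU₀ hB hBU
  algebraize [(s.appLE U₀ B hBU).hom]
  let q := hB.primeIdealOf ⟨p, hpB⟩
  let m := (hV.primeIdealOf ⟨t p, hpV⟩).asIdeal
  haveI : m.IsMaximal := hmax
  let τ := (t.appLE V B hBV).hom
  have hover : ∀ P : PrimeSpectrum Γ(R, B), s (hB.fromSpec P) =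
      hU₀.fromSpec (PrimeSpectrum.comap (algebraMap Γ(U, U₀) Γ(R, B)) P) := fun P ↦ by
    rw [← Scheme.Hom.comp_apply, ← IsAffineOpen.SpecMap_appLE_fromSpec s hU₀ hB hBU]
    rfl
  have hqx : hB.fromSpec q = p := hB.fromSpec_primeIdealOf ⟨p, hpB⟩
  have hqm : PrimeSpectrum.comap τ q = hV.primeIdealOf ⟨t p, hpV⟩ := hV.fromSpec.isOpenEmbedding.injective (by
    show (Spec.map (t.appLE V B hBV) ≫ hV.fromSpec) q = hV.fromSpec _
    rw [IsAffineOpen.SpecMap_appLE_fromSpec t hV hB hBV, Scheme.Hom.comp_apply, hqx, hV.fromSpec_primeIdealOf])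
  have hclosed : ∀ P : PrimeSpectrum Γ(R, B),
      P.asIdeal.comap (algebraMap Γ(U, U₀) Γ(R, B)) = q.asIdeal.comap (algebraMap Γ(U, U₀) Γ(R, B)) →
      q.asIdeal ≤ P.asIdeal → P = q := by
    intro P hPp hle
    have hPx : s (hB.fromSpec P) = s p := by
      rw [← hqx, hover, hover]
      exact congrArg hU₀.fromSpec (PrimeSpectrum.ext hPp)
    have hsp : p ⤳ hB.fromSpec P := by
      rw [← hqx]
      exact ((PrimeSpectrum.le_iff_specializes q P).mp hle).map hB.fromSpec.continuous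
    obtain ⟨y', hy'⟩ : hB.fromSpec P ∈ Set.range (s.fiberι (s p)) := by
      rw [s.range_fiberι]; exact hPx
    have hsp' : s.asFiber p ⤳ y' := by
      rw [← (s.fiberι (s p)).isEmbedding.isInducing.specializes_iff, s.fiberι_asFiber, hy']
      exact hsp
    have hy : y' = s.asFiber p := hsp'.mem_closed hcl rfl
    rw [hy, s.fiberι_asFiber, ← hqx] at hy'
    exact hB.fromSpec.isOpenEmbedding.injective hy'.symm
  obtain ⟨e⟩ := FlatLib.nonempty_fibreStalk_ringEquiv s hU₀ hB hBU rfl p hpB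
  haveI := hcm
  haveI := SMTLib.isCohenMacaulayLocalRing_of_ringEquiv e
  haveI hfl0 : Module.Flat Γ(U, U₀) Γ(R, B) := s.flat_appLE hU₀ hB hBU
  obtain ⟨as, has, g₀, hgq, hL⟩ := exists_slice_image (R := Γ(U, U₀)) τ m q
    (Ideal.map_le_iff_le_comap.2 (congrArg PrimeSpectrum.asIdeal hqm).ge)
    (fun D L _ _ ψ ι ρ σ x y _ h1 h2 hy hx => sep_test s t pU hw p hqfj hV hU₀ hB hBU hBV hpB D L ψ ι ρ σ x y h1 h2 hy hx) hclosed
    (SMTLib.isCM_of_isCohenMacaulayLocalRing _)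
  let W := R.basicOpen g₀
  have hW : IsAffineOpen W := hB.basicOpen g₀
  have hWB : W ≤ B := R.basicOpen_le g₀
  let φ : Γ(R, B) ⟶ Γ(R, W) := R.presheaf.map (homOfLE hWB).op
  letI : Algebra Γ(R, B) Γ(R, W) := φ.hom.toAlgebra
  haveI : IsLocalization.Away g₀ Γ(R, W) := hB.isLocalization_basicOpen g₀
  letI : Algebra Γ(U, U₀) Γ(R, W) := (s.appLE U₀ W (hWB.trans hBU)).hom.toAlgebra
  haveI : IsScalarTower Γ(U, U₀) Γ(R, B) Γ(R, W) := IsScalarTower.of_algebraMap_eq fun r ↦ by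
    show s.appLE U₀ W (hWB.trans hBU) r = (s.appLE U₀ B hBU ≫ φ) r
    rw [Scheme.Hom.appLE_map]
  obtain ⟨hfl, hqf⟩ := hL Γ(R, W)
  let I : Ideal Γ(U, V) := Ideal.ofList as
  let τW := (t.appLE V W (hWB.trans hBV)).hom
  have hIW : I.map τW = (Ideal.ofList (as.map τ)).map (algebraMap Γ(R, B) Γ(R, W)) := by
    rw [← Ideal.map_ofList, Ideal.map_map]
    congr 1
    show (t.appLE V W (hWB.trans hBV)).hom = (t.appLE V B hBV ≫ φ).hom
    rw [Scheme.Hom.appLE_map]
  let mkA := CommRingCat.ofHom (Ideal.Quotient.mk I)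
  let mkL := CommRingCat.ofHom (Ideal.Quotient.mk (I.map τW))
  have hfg : I.FG := Submodule.fg_span (List.finite_toSet _)
  haveI : LocallyOfFinitePresentation (Spec.map mkA) := HasRingHomProperty.Spec_iff.mpr
    (RingHom.FinitePresentation.of_surjective _ Ideal.Quotient.mk_surjective (by
      show (RingHom.ker (Ideal.Quotient.mk I)).FG
      rw [Ideal.mk_ker]; exact hfg))
  let g := Spec.map mkA ≫ hV.fromSpec
  haveI : IsClosedImmersion (Spec.map mkA) := IsClosedImmersion.spec_of_surjective _ Ideal.Quotient.mk_surjective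
  have hsq := isPullback_SpecMap_of_isPushout _ _ _ _ (isPushout_quotient τW I)
  have hbig : IsPullback (Spec.map (CommRingCat.ofHom (Ideal.quotientMap (I.map τW) τW Ideal.le_comap_map)))
      (Spec.map mkL) g (hW.fromSpec ≫ t) := by
    rw [← IsAffineOpen.SpecMap_appLE_fromSpec t hV hW (hWB.trans hBV)]
    exact isPullback_comp_mono hsq hV.fromSpec
  let j : Spec (CommRingCat.of (Γ(R, W) ⧸ I.map τW)) ⟶ pullback g t :=
    pullback.lift (Spec.map (CommRingCat.ofHom (Ideal.quotientMap (I.map τW) τW Ideal.le_comap_map)))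
      (Spec.map mkL ≫ hW.fromSpec) (by rw [hbig.w, Category.assoc])
  have hjsq : IsPullback j (Spec.map mkL) (pullback.snd g t) hW.fromSpec := by
    refine IsPullback.of_right ?_ (pullback.lift_snd _ _ _) (IsPullback.of_hasPullback g t)
    rw [pullback.lift_fst]
    exact hbig
  haveI hj : IsOpenImmersion j := MorphismProperty.of_isPullback hjsq.flip inferInstance
  have hjs : j ≫ pullback.snd g t ≫ s = Spec.map (s.appLE U₀ W (hWB.trans hBU) ≫ mkL) ≫ hU₀.fromSpec := by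
    rw [← Category.assoc, pullback.lift_snd, Spec.map_comp, Category.assoc, Category.assoc,
      IsAffineOpen.SpecMap_appLE_fromSpec s hU₀ hW (hWB.trans hBU)]
  have hq2 : ∃ y : Spec (CommRingCat.of (Γ(R, W) ⧸ I.map τW)), pullback.snd g t (j y) = p := by
    have hpW : p ∈ W := by
      have h1 : q ∈ hB.fromSpec ⁻¹ᵁ R.basicOpen g₀ := by
        rw [hB.fromSpec_preimage_basicOpen]; exact hgq
      rw [← hqx]; exact h1
    let Q := hW.primeIdealOf ⟨p, hpW⟩
    have hQ : PrimeSpectrum.comap φ.hom Q = q := hB.fromSpec.isOpenEmbedding.injective (by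
      rw [hqx]
      show (Spec.map φ ≫ hB.fromSpec) Q = p
      rw [hB.map_fromSpec hW]
      exact hW.fromSpec_primeIdealOf ⟨p, hpW⟩)
    have hle : I.map τW ≤ Q.asIdeal := by
      rw [hIW, Ideal.map_le_iff_le_comap]
      refine le_trans ?_ (congrArg PrimeSpectrum.asIdeal hQ).ge
      rw [← Ideal.map_ofList, Ideal.map_le_iff_le_comap]
      exact (Ideal.span_le.2 fun a ha => has a ha).trans (congrArg PrimeSpectrum.asIdeal hqm).ge
    obtain ⟨y, hy⟩ : Q ∈ Set.range (PrimeSpectrum.comap (Ideal.Quotient.mk (I.map τW))) := by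
      rw [range_comap_of_surjective _ _ Ideal.Quotient.mk_surjective, Ideal.mk_ker]
      exact hle
    refine ⟨y, ?_⟩
    rw [← Scheme.Hom.comp_apply, pullback.lift_snd, Scheme.Hom.comp_apply]
    show hW.fromSpec (PrimeSpectrum.comap (Ideal.Quotient.mk (I.map τW)) y) = p
    rw [hy]
    exact hW.fromSpec_primeIdealOf ⟨p, hpW⟩
  refine ⟨_, g, inferInstance, inferInstance, _, j, hj, ?_, ?_, hq2⟩
  · haveI : Flat (Spec.map (s.appLE U₀ W (hWB.trans hBU) ≫ mkL)) := HasRingHomProperty.Spec_iff.mpr (by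
      show (algebraMap Γ(U, U₀) (Γ(R, W) ⧸ I.map τW)).Flat
      rw [RingHom.flat_algebraMap_iff]
      exact hIW ▸ hfl)
    rw [hjs]; infer_instance
  · haveI : LocallyQuasiFinite (Spec.map (s.appLE U₀ W (hWB.trans hBU) ≫ mkL)) := HasRingHomProperty.Spec_iff.mpr (by
      show (algebraMap Γ(U, U₀) (Γ(R, W) ⧸ I.map τW)).QuasiFinite
      rw [RingHom.quasiFinite_algebraMap]
      exact hIW ▸ hqf)
    rw [hjs]; infer_instance

end QFSectLib
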