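import Groth.Agent.QFSectLib.Algebra
import Groth.Prelude.Def_Flat

/-! # Quasi-finite quasi-sections of surjective morphisms -/

set_option autoImplicit false

universe u

open CategoryTheory Limits AlgebraicGeometry Topology

namespace QFSectLib

theorem exists_affine_refinement {X S : Scheme.{u}} (f : X ⟶ S) [IsAffine S] [LocallyOfFinitePresentation f]
    [Surjective f] : ∃ (Y : Scheme.{u}) (a : Y ⟶ X), IsAffine Y ∧ Surjective (a ≫ f) ∧
      LocallyOfFinitePresentation (a ≫ f) ∧ (Flat f → Flat (a ≫ f)) := by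
  classical
  have hC : ∀ U : X.affineOpens, IsConstructible (f '' (U.1 : Set X)) := fun U => by
    haveI : IsAffine U.1.toScheme := U.2
    have h := (U.1.ι ≫ f).isConstructible_image IsConstructible.univ
    rw [Set.image_univ] at h
    convert h using 1
    ext y
    constructor
    · rintro ⟨x, hx, rfl⟩; exact ⟨⟨x, hx⟩, rfl⟩
    · rintro ⟨x, rfl⟩; exact ⟨x.1, x.2, rfl⟩
  obtain ⟨t, ht⟩ := WeightLib.exists_finset_cover (fun U : X.affineOpens => f '' (U.1 : Set X)) hC fun y => by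
    obtain ⟨x, rfl⟩ := f.surjective y
    obtain ⟨_, ⟨U, hU, rfl⟩, hxU, -⟩ := X.isBasis_affineOpens.exists_subset_of_mem_open (Set.mem_univ x) isOpen_univ
    exact ⟨⟨U, hU⟩, x, hxU, rfl⟩
  let a : (∐ fun U : t => U.1.1.toScheme) ⟶ X := Sigma.desc fun U => U.1.1.ι
  haveI : ∀ U : t, IsAffine U.1.1.toScheme := fun U => U.1.2
  have ha : a ≫ f = Sigma.desc fun U : t => U.1.1.ι ≫ f := Sigma.hom_ext _ _ fun U => by simp [a]
  refine ⟨_, a, inferInstance, ⟨fun y => ?_⟩, ?_, fun hf => ?_⟩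
  · obtain ⟨U, hU, x, hx, rfl⟩ := ht y
    refine ⟨Sigma.ι (fun U : t => U.1.1.toScheme) ⟨U, hU⟩ ⟨x, hx⟩, ?_⟩
    rw [← Scheme.Hom.comp_apply, ha, Sigma.ι_desc]
    rfl
  · rw [ha]
    exact IsZariskiLocalAtSource.sigmaDesc fun U => inferInstance
  · rw [ha]
    haveI := hf
    exact IsZariskiLocalAtSource.sigmaDesc fun U => inferInstance

/-- The affine case. -/
theorem exists_affine_section {X S : Scheme.{u}} (f : X ⟶ S) [IsAffine S] [LocallyOfFinitePresentation f]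
    [Surjective f] : ∃ (T : Scheme.{u}) (h : T ⟶ X), IsAffine T ∧ LocallyOfFinitePresentation (h ≫ f) ∧
      LocallyQuasiFinite (h ≫ f) ∧ Surjective (h ≫ f) ∧ (Flat f → Flat (h ≫ f)) := by
  obtain ⟨Y, a, hY, hsurj, hfp, hfl⟩ := exists_affine_refinement f
  let φ := (a ≫ f).appTop
  algebraize [φ.hom]
  have hg : (a ≫ f) = Y.isoSpec.hom ≫ Spec.map φ ≫ S.isoSpec.inv := by
    rw [Scheme.isoSpec_hom_naturality_assoc (a ≫ f), Iso.hom_inv_id, Category.comp_id]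
  haveI : Algebra.FinitePresentation Γ(S, ⊤) Γ(Y, ⊤) :=
    (HasRingHomProperty.iff_of_isAffine (P := @LocallyOfFinitePresentation)).mp hfp
  have hsurj' : Function.Surjective (PrimeSpectrum.comap (algebraMap Γ(S, ⊤) Γ(Y, ⊤))) := by
    intro p
    obtain ⟨y, hy⟩ := (a ≫ f).surjective (S.isoSpec.inv p)
    rw [hg, Scheme.Hom.comp_apply, Scheme.Hom.comp_apply] at hy
    exact ⟨Y.isoSpec.hom y, S.isoSpec.inv.homeomorph.injective hy⟩
  have finish : ∀ (T : Type u) [CommRing T] [Algebra Γ(S, ⊤) T] (σ : Γ(Y, ⊤) →ₐ[Γ(S, ⊤)] T),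
      Algebra.QuasiFinite Γ(S, ⊤) T → Algebra.FinitePresentation Γ(S, ⊤) T →
      Function.Surjective (PrimeSpectrum.comap (algebraMap Γ(S, ⊤) T)) →
      ((Spec.map (CommRingCat.ofHom σ.toRingHom) ≫ Y.isoSpec.inv ≫ a) ≫ f =
          Spec.map (CommRingCat.ofHom (algebraMap Γ(S, ⊤) T)) ≫ S.isoSpec.inv) ∧
        LocallyOfFinitePresentation ((Spec.map (CommRingCat.ofHom σ.toRingHom) ≫ Y.isoSpec.inv ≫ a) ≫ f) ∧
        LocallyQuasiFinite ((Spec.map (CommRingCat.ofHom σ.toRingHom) ≫ Y.isoSpec.inv ≫ a) ≫ f) ∧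
        Surjective ((Spec.map (CommRingCat.ofHom σ.toRingHom) ≫ Y.isoSpec.inv ≫ a) ≫ f) := by
    intro T _ _ σ h1 h2 h3
    have he : (Spec.map (CommRingCat.ofHom σ.toRingHom) ≫ Y.isoSpec.inv ≫ a) ≫ f =
        Spec.map (CommRingCat.ofHom (algebraMap Γ(S, ⊤) T)) ≫ S.isoSpec.inv := by
      rw [Category.assoc, Category.assoc, hg, Iso.inv_hom_id_assoc, ← Spec.map_comp_assoc]
      congr 2
      ext x
      exact σ.commutes x
    haveI : LocallyOfFinitePresentation (Spec.map (CommRingCat.ofHom (algebraMap Γ(S, ⊤) T))) :=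
      HasRingHomProperty.Spec_iff.mpr (RingHom.finitePresentation_algebraMap.2 h2)
    haveI : LocallyQuasiFinite (Spec.map (CommRingCat.ofHom (algebraMap Γ(S, ⊤) T))) :=
      HasRingHomProperty.Spec_iff.mpr (RingHom.quasiFinite_algebraMap.2 h1)
    haveI : Surjective (Spec.map (CommRingCat.ofHom (algebraMap Γ(S, ⊤) T))) := ⟨h3⟩
    rw [he]
    exact ⟨rfl, inferInstance, inferInstance, inferInstance⟩
  by_cases hf : Flat f
  · haveI : Module.Flat Γ(S, ⊤) Γ(Y, ⊤) := (HasRingHomProperty.iff_of_isAffine (P := @Flat)).mp (hfl hf)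
    haveI : Module.FaithfullyFlat Γ(S, ⊤) Γ(Y, ⊤) := Module.FaithfullyFlat.of_comap_surjective hsurj'
    obtain ⟨T, i1, i2, ⟨h1, h2, h3, ⟨σ⟩⟩, h5⟩ := FlatLib.exists_qf_cover (R := Γ(S, ⊤)) (B := Γ(Y, ⊤))
    haveI := h5
    obtain ⟨he, b1, b2, b3⟩ := finish T σ h1 h2 PrimeSpectrum.comap_surjective_of_faithfullyFlat
    refine ⟨Spec (.of T), _, inferInstance, b1, b2, b3, fun _ => ?_⟩
    haveI : Flat (Spec.map (CommRingCat.ofHom (algebraMap Γ(S, ⊤) T))) :=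
      HasRingHomProperty.Spec_iff.mpr (RingHom.flat_algebraMap_iff.2 h3)
    rw [he]
    infer_instance
  · obtain ⟨T, i1, i2, ⟨h1, h2, ⟨σ⟩⟩, h5⟩ := exists_model_surjective (R := Γ(S, ⊤)) (B := Γ(Y, ⊤)) hsurj'
    obtain ⟨-, b1, b2, b3⟩ := finish T σ h1 h2 h5
    exact ⟨Spec (.of T), _, inferInstance, b1, b2, b3, fun h => absurd h hf⟩

/-- EGA IV 17.16.2. -/
theorem exists_section {X S : Scheme.{u}} (f : X ⟶ S) [LocallyOfFinitePresentation f] [Surjective f] :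
    ∃ (S' : Scheme.{u}) (g : S' ⟶ S) (h : S' ⟶ X), h ≫ f = g ∧ LocallyOfFinitePresentation g ∧
      LocallyQuasiFinite g ∧ Surjective g ∧ (Flat f → Flat g) ∧ (CompactSpace S → IsAffine S') := by
  classical
  obtain ⟨t, ht, hfin⟩ : ∃ t : Set S.affineOpens, (∀ y : S, ∃ U ∈ t, y ∈ U.1) ∧ (CompactSpace S → t.Finite) := by
    by_cases hc : CompactSpace S
    · obtain ⟨t, ht⟩ := isCompact_univ.elim_finite_subcover (fun U : S.affineOpens => (U.1 : Set S))
        (fun U => U.1.isOpen) fun y _ => by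
          obtain ⟨_, ⟨U, hU, rfl⟩, hyU, -⟩ :=
            S.isBasis_affineOpens.exists_subset_of_mem_open (Set.mem_univ y) isOpen_univ
          exact Set.mem_iUnion.2 ⟨⟨U, hU⟩, hyU⟩
      exact ⟨t, fun y => by simpa using ht (Set.mem_univ y), fun _ => t.finite_toSet⟩
    · exact ⟨Set.univ, fun y => by
        obtain ⟨_, ⟨U, hU, rfl⟩, hyU, -⟩ :=
          S.isBasis_affineOpens.exists_subset_of_mem_open (Set.mem_univ y) isOpen_univ
        exact ⟨⟨U, hU⟩, trivial, hyU⟩, fun h => absurd h hc⟩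
  have key : ∀ U : t, ∃ (T : Scheme.{u}) (h : T ⟶ (f ⁻¹ᵁ U.1.1).toScheme), IsAffine T ∧
      LocallyOfFinitePresentation (h ≫ f ∣_ U.1.1) ∧ LocallyQuasiFinite (h ≫ f ∣_ U.1.1) ∧
      Surjective (h ≫ f ∣_ U.1.1) ∧ (Flat f → Flat (h ≫ f ∣_ U.1.1)) := fun U => by
    haveI : IsAffine U.1.1.toScheme := U.1.2
    haveI : Surjective (f ∣_ U.1.1) := IsZariskiLocalAtTarget.restrict (P := @Surjective) ‹_› _
    haveI : LocallyOfFinitePresentation (f ∣_ U.1.1) :=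
      IsZariskiLocalAtTarget.restrict (P := @LocallyOfFinitePresentation) ‹_› _
    obtain ⟨T, h, h1, h2, h3, h4, h5⟩ := exists_affine_section (f ∣_ U.1.1)
    exact ⟨T, h, h1, h2, h3, h4, fun hf => h5 (IsZariskiLocalAtTarget.restrict (P := @Flat) hf _)⟩
  choose T h hT hfp hqf hsurj hfl using key
  refine ⟨∐ T, Sigma.desc fun U => (h U ≫ f ∣_ U.1.1) ≫ U.1.1.ι, Sigma.desc fun U => h U ≫ (f ⁻¹ᵁ U.1.1).ι,
    Sigma.hom_ext _ _ fun U => by simp, ?_, ?_, ⟨fun y => ?_⟩, fun hf => ?_, fun hc => ?_⟩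
  · refine IsZariskiLocalAtSource.sigmaDesc fun U => ?_
    haveI := hfp U
    infer_instance
  · refine IsZariskiLocalAtSource.sigmaDesc fun U => ?_
    haveI := hqf U
    infer_instance
  · obtain ⟨U, hU, hy⟩ := ht y
    haveI := hsurj ⟨U, hU⟩
    obtain ⟨z, hz⟩ := (h ⟨U, hU⟩ ≫ f ∣_ U.1).surjective ⟨y, hy⟩
    refine ⟨Sigma.ι T ⟨U, hU⟩ z, ?_⟩
    rw [← Scheme.Hom.comp_apply, Sigma.ι_desc, Scheme.Hom.comp_apply, hz]
    rfl
  · refine IsZariskiLocalAtSource.sigmaDesc fun U => ?_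
    haveI := hfl U hf
    infer_instance
  · haveI : Finite t := (hfin hc).to_subtype
    exact inferInstance

end QFSectLib
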