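import Groth.Agent.CMFlatLib.QFIso
import Groth.Agent.FlatLib.QFCover
import Groth.Agent.WeightLib.Constr

/-! # Quasi-finite finitely presented covers of surjective algebras (EGA IV 17.16.2) -/

set_option autoImplicit false

universe u

open TensorProduct Topology

namespace QFSectLib

variable {R B : Type u} [CommRing R] [CommRing B] [Algebra R B]

/-- A quasi-finite, finitely presented `R`-algebra under `B`. -/
def IsModel (B T : Type u) [CommRing B] [Algebra R B] [CommRing T] [Algebra R T] : Prop :=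
  Algebra.QuasiFinite R T ∧ Algebra.FinitePresentation R T ∧ Nonempty (B →ₐ[R] T)

theorem exists_cut [Algebra.FinitePresentation R B] (p : PrimeSpectrum R)
    (hp : p ∈ Set.range (PrimeSpectrum.comap (algebraMap R B))) :
    ∃ J : Ideal B, J.FG ∧ ∃ q : PrimeSpectrum (B ⧸ J),
      PrimeSpectrum.comap (algebraMap R (B ⧸ J)) q = p ∧ Algebra.QuasiFiniteAt R q.asIdeal := by
  classical
  obtain ⟨q₀, hq₀⟩ := hp
  let φ : B →ₐ[R] p.asIdeal.Fiber B := Algebra.TensorProduct.includeRight
  let E := PrimeSpectrum.preimageHomeomorphFiber R B p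
  haveI : Nontrivial (p.asIdeal.Fiber B) := (E ⟨q₀, hq₀⟩).nontrivial
  haveI : IsNoetherianRing (p.asIdeal.Fiber B) := Algebra.FiniteType.isNoetherianRing p.asIdeal.ResidueField _
  obtain ⟨m, hm⟩ := Ideal.exists_maximal (p.asIdeal.Fiber B)
  obtain ⟨s, hs⟩ : m.FG := IsNoetherian.noetherian m
  choose r hr b hb using fun x : p.asIdeal.Fiber B => Ideal.Fiber.exists_smul_eq_one_tmul p.asIdeal x
  have hu : ∀ x, IsUnit (algebraMap R (p.asIdeal.Fiber B) (r x)) := fun x => by
    rw [IsScalarTower.algebraMap_apply R p.asIdeal.ResidueField (p.asIdeal.Fiber B)]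
    exact (Ne.isUnit fun h0 => hr x (Ideal.algebraMap_residueField_eq_zero.mp h0)).map _
  let J : Ideal B := Ideal.span (s.image b : Finset B)
  have hb' : ∀ x, φ (b x) = algebraMap R (p.asIdeal.Fiber B) (r x) * x := fun x => by
    rw [← Algebra.smul_def]; exact (hb x).symm
  have hJm : J.map φ.toRingHom = m := by
    refine le_antisymm ?_ ?_
    · rw [Ideal.map_span, Ideal.span_le]
      rintro _ ⟨_, hy, rfl⟩
      obtain ⟨x, hx, rfl⟩ := Finset.mem_image.1 (Finset.mem_coe.1 hy)
      show φ (b x) ∈ m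
      rw [hb']
      exact Ideal.mul_mem_left _ _ (hs ▸ Ideal.subset_span hx)
    · rw [← hs, Ideal.span_le]
      intro x hx
      have : φ (b x) ∈ J.map φ.toRingHom :=
        Ideal.mem_map_of_mem φ.toRingHom (Ideal.subset_span (Finset.mem_coe.2 (Finset.mem_image.2 ⟨x, hx, rfl⟩)))
      rw [hb'] at this
      exact (Ideal.unit_mul_mem_iff_mem _ (hu x)).1 this
  let q₁ : PrimeSpectrum B := PrimeSpectrum.comap φ.toRingHom ⟨m, hm.isPrime⟩
  have hJq : J ≤ q₁.asIdeal := Ideal.map_le_iff_le_comap.1 hJm.le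
  have hq₁p : PrimeSpectrum.comap (algebraMap R B) q₁ = p := (E.symm ⟨m, hm.isPrime⟩).2
  obtain ⟨q, hq⟩ : q₁ ∈ Set.range (PrimeSpectrum.comap (Ideal.Quotient.mk J)) := by
    rw [range_comap_of_surjective _ _ Ideal.Quotient.mk_surjective, Ideal.mk_ker]
    exact hJq
  have hcomp : ∀ P : PrimeSpectrum (B ⧸ J), PrimeSpectrum.comap (algebraMap R (B ⧸ J)) P =
      PrimeSpectrum.comap (algebraMap R B) (PrimeSpectrum.comap (Ideal.Quotient.mk J) P) := fun P => by
    rw [← PrimeSpectrum.comap_comp_apply]; rfl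
  haveI : Algebra.FiniteType R (B ⧸ J) := .of_surjective (Ideal.Quotient.mkₐ R J) Ideal.Quotient.mk_surjective
  refine ⟨J, Submodule.fg_span (Finset.finite_toSet _), q, by rw [hcomp, hq, hq₁p],
    CMFlatLib.quasiFiniteAt_of_isolated q fun P hP _ => ?_⟩
  rw [hcomp, hcomp, hq, hq₁p] at hP
  let Q := E ⟨PrimeSpectrum.comap (Ideal.Quotient.mk J) P, hP⟩
  have hQ : PrimeSpectrum.comap φ.toRingHom Q = PrimeSpectrum.comap (Ideal.Quotient.mk J) P :=
    congrArg Subtype.val (E.symm_apply_apply ⟨_, hP⟩)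
  have hmQ : m ≤ Q.asIdeal := by
    rw [← hJm, Ideal.map_le_iff_le_comap]
    refine le_of_le_of_eq (fun x hx => ?_) (congrArg PrimeSpectrum.asIdeal hQ).symm
    rw [PrimeSpectrum.comap_asIdeal, Ideal.mem_comap, Ideal.Quotient.eq_zero_iff_mem.2 hx]
    exact zero_mem _
  have : Q = ⟨m, hm.isPrime⟩ := PrimeSpectrum.ext (hm.eq_of_le Q.isPrime.ne_top hmQ).symm
  refine PrimeSpectrum.comap_injective_of_surjective _ Ideal.Quotient.mk_surjective ?_
  rw [← hQ, this, hq]

theorem exists_model_nhd [Algebra.FinitePresentation R B] (p : PrimeSpectrum R)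
    (hp : p ∈ Set.range (PrimeSpectrum.comap (algebraMap R B))) :
    ∃ (T : Type u) (_ : CommRing T) (_ : Algebra R T), IsModel (R := R) B T ∧
      p ∈ Set.range (PrimeSpectrum.comap (algebraMap R T)) := by
  obtain ⟨J, hJ, q, hqp, hqf⟩ := exists_cut p hp
  haveI := hqf
  let C := B ⧸ J
  haveI : Algebra.FinitePresentation R C := Algebra.FinitePresentation.quotient hJ
  obtain ⟨S₀, hS₀, r, hr, hbij⟩ :=
    Algebra.QuasiFiniteAt.exists_fg_and_exists_notMem_and_awayMap_bijective (R := R) q.asIdeal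
  haveI : Module.Finite R S₀ := ⟨(Submodule.fg_top _).mpr hS₀⟩
  haveI : Algebra.QuasiFinite R (Localization.Away r) := .trans R S₀ _
  haveI : Algebra.QuasiFinite R (Localization.Away r.1) :=
    .of_surjective_algHom (Localization.awayMapₐ S₀.val r) hbij.2
  let D := Localization.Away r.1
  haveI : Algebra.FinitePresentation C D := IsLocalization.Away.finitePresentation r.1
  haveI : Algebra.FinitePresentation R D := Algebra.FinitePresentation.trans R C D
  refine ⟨D, inferInstance, inferInstance, ⟨inferInstance, inferInstance,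
    ⟨(IsScalarTower.toAlgHom R C D).comp (Ideal.Quotient.mkₐ R J)⟩⟩, ?_⟩
  have : q ∈ Set.range (PrimeSpectrum.comap (algebraMap C D)) := by
    rw [PrimeSpectrum.localization_away_comap_range D r.1]
    exact hr
  obtain ⟨z, hz⟩ := this
  exact ⟨z, by rw [IsScalarTower.algebraMap_eq R C D, PrimeSpectrum.comap_comp_apply, hz, hqp]⟩

theorem exists_model_finset (s : Finset (PrimeSpectrum R)) (U : PrimeSpectrum R → Set (PrimeSpectrum R))
    (hU : ∀ p ∈ s, ∃ (T : Type u) (_ : CommRing T) (_ : Algebra R T), IsModel (R := R) B T ∧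
      U p ⊆ Set.range (PrimeSpectrum.comap (algebraMap R T))) :
    ∃ (T : Type u) (_ : CommRing T) (_ : Algebra R T), IsModel (R := R) B T ∧
      ∀ p ∈ s, U p ⊆ Set.range (PrimeSpectrum.comap (algebraMap R T)) := by
  classical
  induction s using Finset.induction_on with
  | empty =>
    haveI : Algebra.FinitePresentation R PUnit.{u+1} :=
      Algebra.FinitePresentation.of_surjective (f := Algebra.ofId R PUnit.{u+1})
        (fun x ↦ ⟨0, Subsingleton.elim _ _⟩) ⟨{1}, by
          rw [Finset.coe_singleton]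
          exact le_antisymm (fun x _ ↦ Subsingleton.elim _ _)
            (fun x _ ↦ Ideal.mem_span_singleton'.mpr ⟨x, mul_one x⟩)⟩
    exact ⟨PUnit.{u+1}, inferInstance, inferInstance, ⟨inferInstance, inferInstance,
      ⟨{ toFun := fun _ ↦ PUnit.unit, map_one' := rfl, map_mul' := fun _ _ ↦ rfl, map_zero' := rfl,
         map_add' := fun _ _ ↦ rfl, commutes' := fun _ ↦ rfl }⟩⟩, by simp⟩
  | @insert a t _ ih =>
    obtain ⟨A, _, _, ⟨hA1, hA2, ⟨fA⟩⟩, hA⟩ := hU a (Finset.mem_insert_self a t)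
    obtain ⟨C, _, _, ⟨hC1, hC2, ⟨fC⟩⟩, hC⟩ := ih fun p hp ↦ hU p (Finset.mem_insert_of_mem hp)
    haveI := hA1; haveI := hA2; haveI := hC1; haveI := hC2
    refine ⟨A × C, inferInstance, inferInstance, ⟨FlatLib.quasiFinite_prod A C, FlatLib.finitePresentation_prod A C,
      ⟨fA.prod fC⟩⟩, fun p hp ↦ ?_⟩
    intro x hx
    rcases Finset.mem_insert.mp hp with rfl | hp
    · obtain ⟨z, rfl⟩ := hA hx
      exact ⟨PrimeSpectrum.comap (RingHom.fst A C) z, (PrimeSpectrum.comap_comp_apply _ _ _).symm⟩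
    · obtain ⟨z, rfl⟩ := hC p hp hx
      exact ⟨PrimeSpectrum.comap (RingHom.snd A C) z, (PrimeSpectrum.comap_comp_apply _ _ _).symm⟩

/-- EGA IV 17.16.2 (iii). -/
theorem exists_model_surjective [Algebra.FinitePresentation R B]
    (h : Function.Surjective (PrimeSpectrum.comap (algebraMap R B))) :
    ∃ (T : Type u) (_ : CommRing T) (_ : Algebra R T), IsModel (R := R) B T ∧
      Function.Surjective (PrimeSpectrum.comap (algebraMap R T)) := by
  choose T i1 i2 hM hp using fun p => exists_model_nhd (B := B) p (h p)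
  let U : PrimeSpectrum R → Set (PrimeSpectrum R) := fun p => Set.range (PrimeSpectrum.comap (algebraMap R (T p)))
  have hU : ∀ p, IsConstructible (U p) := fun p => by
    haveI := (hM p).2.1
    exact PrimeSpectrum.isConstructible_range_comap (RingHom.finitePresentation_algebraMap.2 inferInstance)
  obtain ⟨s, hs⟩ := WeightLib.exists_finset_cover U hU fun x => ⟨x, hp x⟩
  obtain ⟨T', iT1, iT2, hT, hcov⟩ := exists_model_finset (B := B) s U fun p _ ↦ ⟨T p, i1 p, i2 p, hM p, le_rfl⟩
  refine ⟨T', iT1, iT2, hT, fun x => ?_⟩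
  obtain ⟨p, hps, hx⟩ := hs x
  exact hcov p hps hx

end QFSectLib
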