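import Groth.Agent.FlatLib.GenericFree
import Mathlib

/-! # Fields in finite type domains -/

set_option autoImplicit false

universe u

open TensorProduct Polynomial

namespace QFSectLib

variable {k D : Type u} [Field k] [CommRing D] [IsDomain D] [Algebra k D] [Algebra.FiniteType k D]

/-- A subfield of a finite type domain consists of algebraic elements. -/
theorem isAlgebraic_of_field {K : Type u} [Field K] (φ : K →+* D) (y : K) : IsAlgebraic k (φ y) := by
  classical
  by_contra hx
  have hinj : Function.Injective (aeval (R := k) (φ y)) := transcendental_iff_injective.1 hx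
  letI : Algebra k[X] D := (aeval (R := k) (φ y)).toRingHom.toAlgebra
  haveI : IsScalarTower k k[X] D := IsScalarTower.of_algebraMap_eq fun c => ((aeval (R := k) (φ y)).commutes c).symm
  haveI : Algebra.FiniteType k[X] D := Algebra.FiniteType.of_restrictScalars_finiteType k k[X] D
  obtain ⟨f, hf, hfree⟩ := FlatLib.gfree_of_finite (R := k[X]) D D
  let L := Localization.Away f
  haveI : Module.Flat k[X] L := IsLocalization.flat L (Submonoid.powers f)
  haveI : Nontrivial L := (IsLocalization.injective L (powers_le_nonZeroDivisors_of_noZeroDivisors hf)).nontrivial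
  have hincl : Function.Injective (Algebra.TensorProduct.includeLeft : L →ₐ[k[X]] L ⊗[k[X]] D) :=
    Algebra.TensorProduct.includeLeft_injective (show Function.Injective (algebraMap k[X] D) from hinj)
  haveI : Nontrivial (L ⊗[k[X]] D) := hincl.nontrivial
  haveI := hfree
  haveI : Module.FaithfullyFlat L (L ⊗[k[X]] D) := inferInstance
  -- every polynomial over the integers which survives in `k[X]` becomes invertible away from `f`
  let σ : ℤ[X] →+* k[X] := mapRingHom (Int.castRingHom k)
  have hunit : ∀ h : ℤ[X], σ h ≠ 0 → IsUnit (algebraMap k[X] L (σ h)) := by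
    intro h hh
    have h1 : algebraMap k[X] D (σ h) = φ (eval₂ (Int.castRingHom K) y h) := by
      show aeval (φ y) (σ h) = _
      rw [hom_eval₂, aeval_def, show σ h = h.map (Int.castRingHom k) from rfl, eval₂_map]
      exact congrArg (fun g => eval₂ g (φ y) h) (Subsingleton.elim _ _)
    have h2 : IsUnit (algebraMap k[X] D (σ h)) := by
      rw [h1]
      refine (Ne.isUnit fun h0 => hh (hinj ?_)).map φ
      rw [show aeval (φ y) (σ h) = algebraMap k[X] D (σ h) from rfl, h1, h0, map_zero, map_zero]
    refine IsUnit.of_map (algebraMap L (L ⊗[k[X]] D)) _ ?_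
    rw [← IsScalarTower.algebraMap_apply k[X] L (L ⊗[k[X]] D)]
    have : algebraMap k[X] (L ⊗[k[X]] D) (σ h) = Algebra.TensorProduct.includeRight (algebraMap k[X] D (σ h)) :=
      ((Algebra.TensorProduct.includeRight (R := k[X]) (A := L) (B := D)).commutes (σ h)).symm
    rw [this]
    exact h2.map _
  have hfin : {P : Ideal k[X] | P.IsPrime ∧ f ∈ P}.Finite := by
    refine Set.Finite.subset (Ideal.finite_minimalPrimes_of_isNoetherianRing k[X] (Ideal.span {f})) ?_
    rintro P ⟨hP, hfP⟩
    refine ⟨⟨hP, (Ideal.span_singleton_le_iff_mem _).2 hfP⟩, fun Q hQ hle => ?_⟩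
    have hQ0 : Q ≠ ⊥ := fun h0 => hf (by simpa [h0] using hQ.2 (Ideal.mem_span_singleton_self f))
    exact ((hQ.1.isMaximal hQ0).eq_of_le hP.ne_top hle).ge
  let g : Ideal k[X] → ℤ[X] := fun P => if h : ∃ q, σ q ∈ P ∧ σ q ≠ 0 then h.choose else 1
  let G := ∏ P ∈ hfin.toFinset, g P
  have hG : σ G ≠ 0 := by
    rw [map_prod]
    refine Finset.prod_ne_zero_iff.2 fun P _ => ?_
    simp only [g]
    split
    · next h => exact h.choose_spec.2
    · rw [map_one]; exact one_ne_zero
  let h := X * G + 1
  have hσh : σ h = X * σ G + 1 := by simp [h, σ]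
  have hdeg : (σ h).natDegree = (σ G).natDegree + 1 := by
    rw [hσh, natDegree_add_eq_left_of_natDegree_lt] <;> rw [natDegree_X_mul hG]
    simp
  have hh : σ h ≠ 0 := fun h0 => by rw [h0, natDegree_zero] at hdeg; omega
  have hnu : ¬ IsUnit (σ h) := fun hu => by rw [natDegree_eq_zero_of_isUnit hu] at hdeg; omega
  obtain ⟨n, hn, hhn⟩ := exists_max_ideal_of_mem_nonunits hnu
  have hu := hunit h hh
  obtain ⟨c, ⟨_, N, rfl⟩, hc⟩ : ∃ c, ∃ w : Submonoid.powers f, σ h * c = (w : k[X]) := by
    obtain ⟨c, w, hcw⟩ := IsLocalization.exists_mk'_eq (Submonoid.powers f) (hu.unit⁻¹ : Lˣ).1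
    refine ⟨c, w, IsLocalization.injective L (powers_le_nonZeroDivisors_of_noZeroDivisors hf) ?_⟩
    have := hu.mul_val_inv
    rw [← hcw, IsLocalization.mul_mk'_eq_mk'_of_mul, IsLocalization.mk'_eq_iff_eq_mul, one_mul] at this
    exact this
  have hfn : f ∈ n := hn.isPrime.mem_of_pow_mem N (by
    have : σ h * c ∈ n := n.mul_mem_right c hhn
    rw [hc] at this; exact this)
  have hmem : n ∈ hfin.toFinset := hfin.mem_toFinset.2 ⟨hn.isPrime, hfn⟩
  have hgn : σ G ∈ n := by
    rw [map_prod]
    refine Ideal.prod_mem _ hmem ?_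
    simp only [g]
    rw [dif_pos ⟨h, hhn, hh⟩]
    exact (Exists.choose_spec (⟨h, hhn, hh⟩ : ∃ q, σ q ∈ n ∧ σ q ≠ 0)).1
  exact hn.ne_top ((Ideal.eq_top_iff_one _).2 (by
    have := n.sub_mem hhn (n.mul_mem_left X hgn)
    rwa [hσh, add_sub_cancel_left] at this))

/-- The algebraic closure of the ground field in a domain is a field containing every subfield. -/
theorem exists_field_hom {K : Type u} [Field K] (φ : K →+* D) :
    ∃ (l : Type u) (_ : Field l) (ι : l →+* D) (ρ : k →+* l) (σ : K →+* l),
      Function.Injective ι ∧ ι.comp ρ = algebraMap k D ∧ ι.comp σ = φ := by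
  have hl : IsField (integralClosure k D) := isField_of_isIntegral_of_isField' (Field.toIsField k)
  exact ⟨integralClosure k D, hl.toField, (integralClosure k D).val.toRingHom, algebraMap k (integralClosure k D),
    φ.codRestrict (integralClosure k D) fun y => isAlgebraic_iff_isIntegral.1 (isAlgebraic_of_field φ y),
    Subtype.val_injective, rfl, rfl⟩

end QFSectLib
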