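import Groth.Agent.CMFlatLib.FibreDepth

/-! # Regular sequences coming from a given ideal of a source ring -/

set_option autoImplicit false

universe u

open IsLocalRing RingTheory.Sequence CommAlgDim GorLib

namespace QFSectLib

theorem exists_regular_image {A : Type u} [CommRing A] (m : Ideal A) :
    ∀ (n : ℕ) (G : Type u) [CommRing G] [IsLocalRing G] [IsNoetherianRing G] (π : A →+* G),
      IsCM G → ringKrullDim G ≤ n → m.map π ≤ maximalIdeal G →
      (∀ P : Ideal G, P.IsPrime → m.map π ≤ P → P = maximalIdeal G) →
      ∃ as : List A, (∀ a ∈ as, a ∈ m) ∧ IsWeaklyRegular G (as.map π) ∧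
        ∀ P : Ideal G, P.IsPrime → Ideal.ofList (as.map π) ≤ P → P = maximalIdeal G := by
  classical
  intro n
  induction n with
  | zero =>
    intro G _ _ _ π _ hd _ _
    haveI : Ring.KrullDimLE 0 G := Ring.krullDimLE_iff.2 hd
    exact ⟨[], by simp, IsWeaklyRegular.nil _ _, fun P hP _ => IsLocalRing.eq_maximalIdeal (Ideal.IsPrime.isMaximal' hP)⟩
  | succ n ih =>
    intro G _ _ _ π hG hd hm hiso
    by_cases hd0 : ringKrullDim G ≤ (n : ℕ)
    · exact ih G π hG hd0 hm hiso
    · obtain ⟨ls, hls, hdls⟩ := hG
      have hne : ∀ P ∈ associatedPrimes G G, ¬ m.map π ≤ P := by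
        intro P hP hle
        obtain rfl := hiso P hP.isPrime hle
        have h := length_le_ringKrullDim_of_mem_associatedPrimes ls G hls _ hP
        rw [ringKrullDim_eq_zero_of_isField
          ((Ideal.Quotient.maximal_ideal_iff_isField_quotient _).1 inferInstance)] at h
        rw [← hdls] at h
        exact hd0 (h.trans (by exact_mod_cast Nat.zero_le n))
      have hfin := associatedPrimes.finite G G
      obtain ⟨a, ha, hx⟩ : ∃ a ∈ m, IsSMulRegular G (π a) := by
        by_contra! hno
        have hsub : (m : Set A) ⊆ ⋃ P ∈ (↑hfin.toFinset : Set (Ideal G)), ((P.comap π : Ideal A) : Set A) := by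
          intro a ha
          have hz : π a ∉ nonZeroDivisors G := fun hz => hno a ha (fun x y hxy => sub_eq_zero.1
            ((mem_nonZeroDivisors_iff_left.1 hz) (x - y) (by rw [mul_sub]; exact sub_eq_zero.2 hxy)))
          have : π a ∈ ⋃ p ∈ associatedPrimes G G, (p : Set G) := by
            rw [biUnion_associatedPrimes_eq_compl_nonZeroDivisors]; exact hz
          simp only [Set.mem_iUnion] at this
          obtain ⟨P, hP, hPa⟩ := this
          simp only [Set.mem_iUnion]
          exact ⟨P, hfin.mem_toFinset.2 hP, hPa⟩
        obtain ⟨P, hP, hle⟩ := (Ideal.subset_union_prime ⊥ ⊥ fun P hP _ _ => by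
          haveI := (hfin.mem_toFinset.1 hP).isPrime
          exact Ideal.IsPrime.comap π).1 hsub
        exact hne P (hfin.mem_toFinset.1 hP) (Ideal.map_le_iff_le_comap.2 hle)
      have hxm : π a ∈ maximalIdeal G := hm (Ideal.mem_map_of_mem π ha)
      haveI : IsLocalRing (G ⧸ Ideal.span {π a}) := isLocalRing_quotient
        (ne_top_of_le_ne_top (Ideal.IsMaximal.ne_top inferInstance) ((Ideal.span_singleton_le_iff_mem _).2 hxm))
      have h5 := ringKrullDim_quotient_span_singleton_succ_eq_ringKrullDim hx hxm
      let q := Ideal.Quotient.mk (Ideal.span {π a})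
      have hq : Function.Surjective q := Ideal.Quotient.mk_surjective
      have hker : RingHom.ker q = Ideal.span {π a} := Ideal.mk_ker
      have hcomap : ∀ P : Ideal (G ⧸ Ideal.span {π a}), P.IsPrime → P.comap q = maximalIdeal G →
          P = maximalIdeal (G ⧸ Ideal.span {π a}) := fun P _ he => by
        rw [maximalIdeal_quotient, ← he, Ideal.map_comap_of_surjective _ hq]
      obtain ⟨as, has, hreg, hz⟩ := ih (G ⧸ Ideal.span {π a}) (q.comp π) (IsCM.quotient_singleton ⟨ls, hls, hdls⟩ hx hxm)
        (by
          obtain ⟨e, he⟩ := exists_ringKrullDim_eq (R := G ⧸ Ideal.span {π a})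
          rw [← h5, he] at hd
          rw [he]
          norm_cast at hd ⊢
          omega)
        (by rw [← Ideal.map_map, maximalIdeal_quotient]; exact Ideal.map_mono hm)
        (fun P hP hle => hcomap P hP (hiso _ (Ideal.IsPrime.comap q) (by
          rw [← Ideal.map_le_iff_le_comap, Ideal.map_map]; exact hle)))
      refine ⟨a :: as, List.forall_mem_cons.2 ⟨ha, has⟩, ?_, fun P hP hle => ?_⟩
      · rw [List.map_cons, isWeaklyRegular_cons_ring]
        refine ⟨hx, ?_⟩
        rw [List.map_map]
        exact hreg
      · rw [List.map_cons, Ideal.ofList_cons, sup_le_iff] at hle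
        have hkP : RingHom.ker q ≤ P := by rw [hker]; exact hle.1
        haveI : (P.map q).IsPrime := Ideal.map_isPrime_of_surjective hq hkP
        have := hz (P.map q) inferInstance (by
          refine le_trans (le_of_eq ?_) (Ideal.map_mono hle.2)
          rw [Ideal.map_ofList, List.map_map]
          rfl)
        have h2 : P = (P.map q).comap q := by
          rw [Ideal.comap_map_of_surjective _ hq, sup_eq_left.2]
          exact hkP
        rw [h2, this]
        exact IsLocalRing.eq_maximalIdeal (Ideal.comap_isMaximal_of_surjective q hq)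

end QFSectLib
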