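import Groth.Agent.GrpdLib.InvOpen

/-! # Division of two arrows with a common target -/

set_option autoImplicit false
universe u

open CategoryTheory Limits AlgebraicGeometry

namespace QFSectLib

variable {S : Scheme.{u}} (G : Grpd.GroupoidScheme S)

theorem inv_comp_cancel {T : Scheme.{u}} (a r : T ⟶ G.R) (h : a ≫ G.s = r ≫ G.t) :
    pullback.lift (a ≫ G.i) (pullback.lift a r h ≫ G.c)
      (by rw [Category.assoc, G.i_s, G.comp_t]) ≫ G.c = r := by
  have h1 : (a ≫ G.i) ≫ G.s = a ≫ G.t := by rw [Category.assoc, G.i_s]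
  rw [← G.assoc (a ≫ G.i) a r h1 h, GrpdLib.comp_congr G _ (G.i_comp a) rfl]
  conv_rhs => rw [← G.e_comp r]
  exact GrpdLib.comp_congr G _ (by rw [reassoc_of% h]) rfl

theorem comp_inv_cancel {T : Scheme.{u}} (a r : T ⟶ G.R) (h : a ≫ G.t = r ≫ G.t) :
    pullback.lift a (pullback.lift (a ≫ G.i) r (by rw [Category.assoc, G.i_s]; exact h) ≫ G.c)
      (by rw [G.comp_t, Category.assoc, G.i_t]) ≫ G.c = r := by
  have h1 : a ≫ G.s = (a ≫ G.i) ≫ G.t := by rw [Category.assoc, G.i_t]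
  have h2 : (a ≫ G.i) ≫ G.s = r ≫ G.t := by rw [Category.assoc, G.i_s]; exact h
  rw [← G.assoc a (a ≫ G.i) r h1 h2, GrpdLib.comp_congr G _ (G.comp_i a) rfl]
  conv_rhs => rw [← G.e_comp r]
  exact GrpdLib.comp_congr G _ (by rw [reassoc_of% h]) rfl

theorem exists_div_squares {D : Scheme.{u}} (p₁ p₂ : D ⟶ G.R) (hD : IsPullback p₁ p₂ G.t G.t) :
    ∃ k : D ⟶ G.R, IsPullback p₁ k G.s G.s ∧ IsPullback p₂ k G.s G.t := by
  have hh : (p₂ ≫ G.i) ≫ G.s = p₁ ≫ G.t := by rw [Category.assoc, G.i_s]; exact hD.w.symm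
  refine ⟨pullback.lift (p₂ ≫ G.i) p₁ hh ≫ G.c, ?_, ?_⟩
  · haveI := GrpdLib.isIso_i G
    have hq : IsPullback (p₁ ≫ G.i) (p₂ ≫ G.i) G.s G.s :=
      hD.of_iso (Iso.refl _) (asIso G.i) (asIso G.i) (Iso.refl _) (by simp) (by simp) (by simp [G.i_s]) (by simp [G.i_s])
    have hdiv := GrpdLib.isPullback_div G (p₁ ≫ G.i) (p₂ ≫ G.i) hq
    have key : pullback.lift (p₂ ≫ G.i) ((p₁ ≫ G.i) ≫ G.i) (by rw [Category.assoc, Category.assoc, Category.assoc, G.i_t, G.i_s]; exact hD.w.symm) ≫ G.c =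
        pullback.lift (p₂ ≫ G.i) p₁ hh ≫ G.c :=
      GrpdLib.comp_congr G _ rfl (by rw [Category.assoc, GrpdLib.i_i, Category.comp_id])
    rw [key] at hdiv
    exact hdiv.of_iso (Iso.refl _) (asIso G.i) (Iso.refl _) (Iso.refl _)
      (by simp [GrpdLib.i_i]) (by simp) (by simp [G.i_s]) (by simp)
  · refine IsPullback.of_isLimit' ⟨by rw [G.comp_t, Category.assoc, G.i_t]⟩ (PullbackCone.IsLimit.mk _
      (fun c => hD.lift (pullback.lift c.fst c.snd c.condition ≫ G.c) c.fst (G.comp_t _ _ c.condition))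
      (fun c => hD.lift_snd _ _ _) (fun c => ?_) (fun c m h1 h2 => hD.hom_ext ?_ ?_))
    · rw [← Category.assoc]
      rw [show hD.lift (pullback.lift c.fst c.snd c.condition ≫ G.c) c.fst (G.comp_t _ _ c.condition) ≫
          pullback.lift (p₂ ≫ G.i) p₁ hh = pullback.lift (c.fst ≫ G.i) (pullback.lift c.fst c.snd c.condition ≫ G.c)
            (by rw [Category.assoc, G.i_s, G.comp_t]) from
        pullback.hom_ext (by rw [Category.assoc, pullback.lift_fst, pullback.lift_fst, ← Category.assoc, hD.lift_snd]) (by rw [Category.assoc, pullback.lift_snd, pullback.lift_snd, hD.lift_fst])]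
      exact inv_comp_cancel G _ _ _
    · rw [hD.lift_fst]
      rw [← comp_inv_cancel G (m ≫ p₂) (m ≫ p₁) (by rw [Category.assoc, Category.assoc, hD.w])]
      refine GrpdLib.comp_congr G _ h1 ?_
      refine Eq.trans ?_ h2
      refine Eq.trans ?_ (Category.assoc _ _ _)
      refine congrArg (· ≫ G.c) (pullback.hom_ext ?_ ?_)
      · rw [pullback.lift_fst, Category.assoc, Category.assoc, pullback.lift_fst]
      · rw [pullback.lift_snd, Category.assoc, pullback.lift_snd]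
    · rw [hD.lift_snd]; exact h1

end QFSectLib
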