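import Groth.Agent.QFSectLib.SliceEqv
import Groth.Agent.QFSectLib.GrpdSquares
import Groth.Agent.CMFlatLib.Groupoid

/-! # Quasi-finite slices of groupoid schemes with quasi-finite stabilizer -/

set_option autoImplicit false
universe u

open CategoryTheory Limits AlgebraicGeometry

namespace QFSectLib

variable {S : Scheme.{u}} (G : Grpd.GroupoidScheme S)

theorem exists_grpd_squares {U' : Scheme.{u}} (g : U' ⟶ G.U) :
    ∃ k : pullback (pullback.fst g G.t) (pullback.fst g G.t) ⟶ G.R,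
      IsPullback (pullback.fst _ _) k (pullback.snd g G.t ≫ G.s) G.s ∧
      IsPullback (pullback.snd _ _) k (pullback.snd g G.t ≫ G.s) G.t := by
  have hD := IsPullback.of_hasPullback G.t G.t
  obtain ⟨k₀, h₁, h₂⟩ := exists_div_squares G _ _ hD
  let π := pullback.fst g G.t
  let a := pullback.fst π π
  let b := pullback.snd π π
  have hπ : π ≫ g = pullback.snd g G.t ≫ G.t := pullback.condition
  have o₁ : IsPullback a (b ≫ pullback.snd g G.t) (π ≫ g) G.t :=
    (IsPullback.of_hasPullback π π).paste_vert (IsPullback.of_hasPullback g G.t)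
  have o₂ : IsPullback b (a ≫ pullback.snd g G.t) (π ≫ g) G.t :=
    (IsPullback.of_hasPullback π π).flip.paste_vert (IsPullback.of_hasPullback g G.t)
  rw [hπ] at o₁ o₂
  have hw : (a ≫ pullback.snd g G.t) ≫ G.t = (b ≫ pullback.snd g G.t) ≫ G.t := by
    rw [Category.assoc, Category.assoc]
    exact o₁.w.trans (Category.assoc _ _ _)
  let m := hD.lift (a ≫ pullback.snd g G.t) (b ≫ pullback.snd g G.t) hw
  have m1 : m ≫ pullback.fst G.t G.t = a ≫ pullback.snd g G.t := hD.lift_fst _ _ _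
  have m2 : m ≫ pullback.snd G.t G.t = b ≫ pullback.snd g G.t := hD.lift_snd _ _ _
  have s₁ : IsPullback a m (pullback.snd g G.t) (pullback.fst G.t G.t) :=
    IsPullback.of_bot (by rw [m2]; exact o₁) m1.symm hD
  have s₂ : IsPullback b m (pullback.snd g G.t) (pullback.snd G.t G.t) :=
    IsPullback.of_bot (by rw [m1]; exact o₂) m2.symm hD.flip
  exact ⟨m ≫ k₀, s₁.paste_vert h₁, s₂.paste_vert h₂⟩

/-- The stabilizer controls the quasi-finiteness of `(t, s)` along the identity section. -/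
theorem quasiFiniteAt_j_unit [LocallyOfFiniteType G.j] [LocallyQuasiFinite G.stabilizerToU] (u : G.U) :
    G.j.QuasiFiniteAt (G.e u) := by
  have h : (pullback.snd G.j G.diag).QuasiFiniteAt (G.eStab u) := Scheme.Hom.quasiFiniteAt G.stabilizerToU _
  rw [RichLib.QFLocus.quasiFiniteAt_iff_of_isPullback (IsPullback.of_hasPullback G.j G.diag)] at h
  have e : pullback.fst G.j G.diag (G.eStab u) = G.e u := by
    show (G.eStab ≫ pullback.fst G.j G.diag) u = _
    rw [Grpd.GroupoidScheme.eStab]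
    erw [pullback.lift_fst]
  exact e ▸ h

/-- The swap of a symmetric relation, in any category. -/
theorem exists_involution {C : Type*} [Category C] {R U U' P Q : C} (s t : R ⟶ U) (i : R ⟶ R) (hii : i ≫ i = 𝟙 R)
    (hs : i ≫ s = t) (g : U' ⟶ U) {p₁ : P ⟶ U'} {p₂ : P ⟶ R} (hP : IsPullback p₁ p₂ g t)
    {q₁ : Q ⟶ P} {q₂ : Q ⟶ U'} (hQ : IsPullback q₁ q₂ (p₂ ≫ s) g) :
    ∃ e : Q ⟶ Q, IsIso e ∧ e ≫ q₂ = q₁ ≫ p₁ := by
  have ht : i ≫ t = s := by rw [← hs, ← Category.assoc, hii, Category.id_comp]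
  let l := hP.lift q₂ (q₁ ≫ p₂ ≫ i) (by rw [Category.assoc, Category.assoc, ht]; exact hQ.w.symm)
  have hl : l ≫ p₂ ≫ s = (q₁ ≫ p₁) ≫ g := by
    rw [← Category.assoc, hP.lift_snd, Category.assoc, Category.assoc, hs, Category.assoc, hP.w]
  let e := hQ.lift l (q₁ ≫ p₁) hl
  have e1 : e ≫ q₁ = l := hQ.lift_fst _ _ _
  have e2 : e ≫ q₂ = q₁ ≫ p₁ := hQ.lift_snd _ _ _
  have l1 : l ≫ p₁ = q₂ := hP.lift_fst _ _ _
  have l2 : l ≫ p₂ = q₁ ≫ p₂ ≫ i := hP.lift_snd _ _ _
  have he : e ≫ e = 𝟙 Q := by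
    refine hQ.hom_ext (hP.hom_ext ?_ ?_) ?_
    · simp only [Category.assoc, e1, l1, e2, Category.id_comp]
    · simp only [Category.assoc, e1, reassoc_of% e1, l2, reassoc_of% l2, hii, Category.comp_id, Category.id_comp]
    · simp only [Category.assoc, e2, reassoc_of% e1, l1, Category.id_comp]
  exact ⟨e, ⟨e, he, he⟩, e2⟩

/-- The restriction of a groupoid to a slice. -/
theorem exists_swap {U' : Scheme.{u}} (g : U' ⟶ G.U) :
    ∃ e : pullback (pullback.snd g G.t ≫ G.s) g ⟶ pullback (pullback.snd g G.t ≫ G.s) g, IsIso e ∧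
      e ≫ pullback.snd (pullback.snd g G.t ≫ G.s) g =
        pullback.fst (pullback.snd g G.t ≫ G.s) g ≫ pullback.fst g G.t :=
  exists_involution G.s G.t G.i (GrpdLib.i_i G) G.i_s g (IsPullback.of_hasPullback g G.t)
    (IsPullback.of_hasPullback _ g)

theorem exists_grpd_slice [LocallyOfFinitePresentation G.s] [LocallyOfFinitePresentation G.t]
    (hs : ∀ r, MoreMor.IsCMAt G.s r) [LocallyQuasiFinite G.stabilizerToU]
    (u : G.U) (hu : LocallyOfFiniteType (G.U.fromSpecResidueField u)) :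
    ∃ (U' : Scheme.{u}) (_ : IsAffine U') (g : U' ⟶ G.U) (u' : U'), IsImmersion g ∧ LocallyOfFinitePresentation g ∧
      g u' = u ∧ Flat (pullback.snd g G.t ≫ G.s) ∧ LocallyQuasiFinite (pullback.snd g G.t ≫ G.s) := by
  haveI : Flat G.s := Flat.of_stalkMap _ fun r => (hs r).1
  haveI := GrpdLib.isIso_i G
  haveI : Flat G.t := GrpdLib.t_eq G ▸ inferInstance
  haveI hj : LocallyOfFiniteType G.j := by
    haveI : LocallyOfFiniteType (G.j ≫ pullback.snd G.pU G.pU) := by
      rw [Grpd.GroupoidScheme.j, pullback.lift_snd]; infer_instance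
    exact locallyOfFiniteType_of_comp _ (pullback.snd G.pU G.pU)
  have hte : G.t (G.e u) = u := by rw [← Scheme.Hom.comp_apply, G.e_t]; rfl
  haveI : LocallyOfFiniteType (G.e ≫ G.s) := G.e_s.symm ▸ inferInstance
  haveI : LocallyOfFiniteType G.e := locallyOfFiniteType_of_comp _ G.s
  obtain ⟨V, hV, huV, hc⟩ := (SweepSix.mem_iff u).1 hu
  have hpV : G.t (G.e u) ∈ V := hte.symm ▸ huV
  have hmax : (hV.primeIdealOf ⟨G.t (G.e u), hpV⟩).asIdeal.IsMaximal := by
    rw [← PrimeSpectrum.isClosed_singleton_iff_isMaximal]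
    have h2 := (hV.isoSpec.hom.homeomorph.isClosedMap _ hc)
    rw [Set.image_singleton] at h2
    have hsub : (⟨G.t (G.e u), hpV⟩ : V) = ⟨u, huV⟩ := Subtype.ext hte
    rw [hsub]
    exact h2
  haveI : LocallyOfFiniteType (pullback.lift G.t G.s (G.t_over.trans G.s_over.symm)) := hj
  obtain ⟨Z, g₀, hg₀, himm, Y, j, hj', h1, h2, y, hy⟩ := exists_slice_point G.s G.t G.pU
    (G.t_over.trans G.s_over.symm) (G.e u) (quasiFiniteAt_j_unit G u) (hs _)
    (isClosed_asFiber_of_lft G.s (SweepSix.image_mem G.e hu)) hV hpV hmax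
  haveI : LocallyOfFinitePresentation (pullback.fst g₀ G.t) := MorphismProperty.pullback_fst _ _ ‹_›
  let V₀ : Z.Opens := ⟨pullback.fst g₀ G.t '' Set.range j,
    (pullback.fst g₀ G.t).isOpenMap _ j.isOpenEmbedding.isOpen_range⟩
  let z₀ := pullback.fst g₀ G.t (j y)
  obtain ⟨W, hW, hzW, hWV⟩ := exists_isAffineOpen_mem_and_subset (X := Z) (x := z₀) (U := V₀) ⟨_, ⟨y, rfl⟩, rfl⟩
  haveI : IsAffine W.toScheme := hW
  let g := W.ι ≫ g₀
  have hgu : g ⟨z₀, hzW⟩ = u := by
    show g₀ z₀ = u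
    rw [← Scheme.Hom.comp_apply, pullback.condition, Scheme.Hom.comp_apply, hy, hte]
  let M : pullback g G.t ⟶ pullback g₀ G.t :=
    pullback.map g G.t g₀ G.t W.ι (𝟙 G.R) (𝟙 G.U) (by simp [g]) (by simp)
  have hM : M ≫ pullback.snd g₀ G.t ≫ G.s = pullback.snd g G.t ≫ G.s := by
    simp only [M, pullback.map]
    erw [pullback.lift_snd_assoc]
    rw [Category.comp_id]
  have hgood : ∀ x, GoodAt (pullback.snd g G.t ≫ G.s) x := by
    intro x
    have h0 : pullback.fst g₀ G.t (M x) ∈ V₀ := by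
      rw [← Scheme.Hom.comp_apply, pullback.lift_fst, Scheme.Hom.comp_apply]
      exact hWV (pullback.fst g G.t x).2
    obtain ⟨_, ⟨z, rfl⟩, hwx⟩ := h0
    obtain ⟨k, hk₁, hk₂⟩ := exists_grpd_squares G g₀
    obtain ⟨f1, f2⟩ := goodAt_of_squares g₀ k hk₁ hk₂ j z (M x) hwx.symm
    rw [← hM]
    exact ⟨(SweepSix.flat_stalkMap_comp_iff M _ x (Flat.stalkMap M x)).2 f1,
      Scheme.Hom.quasiFiniteAt_comp_iff_of_isOpenImmersion.2 f2⟩
  haveI : LocallyOfFiniteType (pullback.snd g G.t ≫ G.s) := inferInstance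
  refine ⟨W, inferInstance, g, ⟨z₀, hzW⟩, inferInstance, inferInstance, hgu,
    Flat.of_stalkMap _ fun x => (hgood x).1, ?_⟩
  rw [← Scheme.Hom.quasiFiniteLocus_eq_top_iff, eq_top_iff]
  exact fun x _ => (hgood x).2

end QFSectLib
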