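import Groth.Agent.QFSectLib.GrpdCut
import Groth.Agent.QFSectLib.GrpdSlice

/-! # Cutting the fibre dimension of a groupoid scheme -/

set_option autoImplicit false
universe u

open CategoryTheory Limits AlgebraicGeometry Topology

namespace QFSectLib

variable {S : Scheme.{u}} (G : Grpd.GroupoidScheme S)

theorem isClosed_asFiber_unit [LocallyOfFiniteType G.s] (u : G.U) (hu : LocallyOfFiniteType (G.U.fromSpecResidueField u)) :
    IsClosed ({G.s.asFiber (G.e u)} : Set ↑(G.s.fiber (G.s (G.e u)))) := by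
  haveI : LocallyOfFiniteType (G.e ≫ G.s) := G.e_s.symm ▸ inferInstance
  haveI : LocallyOfFiniteType G.e := locallyOfFiniteType_of_comp _ G.s
  exact isClosed_asFiber_of_lft G.s (SweepSix.image_mem G.e hu)

theorem exists_stabilizer_embedding (u : G.U) :
    ∃ Φ : ↥(G.stabilizerToU.fiber u) → G.R, IsEmbedding Φ ∧ ∀ z, G.j z = G.j (G.e u) → z ∈ Set.range Φ := by
  haveI : IsImmersion G.diag := inferInstanceAs (IsImmersion (pullback.diagonal G.pU))
  haveI : IsImmersion (pullback.fst G.j G.diag) := MorphismProperty.pullback_fst _ _ inferInstance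
  refine ⟨fun v => pullback.fst G.j G.diag (G.stabilizerToU.fiberι u v),
    (pullback.fst G.j G.diag).isEmbedding.comp (G.stabilizerToU.fiberι u).isEmbedding, fun z hz => ?_⟩
  have hje : G.e ≫ G.j = G.diag := by
    apply pullback.hom_ext
    · rw [Category.assoc, Grpd.GroupoidScheme.j, Grpd.GroupoidScheme.diag, pullback.lift_fst, pullback.lift_fst, G.e_t]
    · rw [Category.assoc, Grpd.GroupoidScheme.j, Grpd.GroupoidScheme.diag, pullback.lift_snd, pullback.lift_snd, G.e_s]
  rw [← Scheme.Hom.comp_apply, hje] at hz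
  obtain ⟨w, hw1, hw2⟩ := Scheme.Pullback.exists_preimage_pullback z u hz
  obtain ⟨v, hv⟩ : w ∈ Set.range (G.stabilizerToU.fiberι u) := by
    rw [G.stabilizerToU.range_fiberι]; exact hw2
  exact ⟨v, by
    show pullback.fst G.j G.diag (G.stabilizerToU.fiberι u v) = z
    rw [hv, hw1]⟩

/-- One step of slicing. -/
theorem exists_grpd_cut [LocallyOfFinitePresentation G.s] [LocallyOfFinitePresentation G.t]
    (hs : ∀ r, MoreMor.IsCMAt G.s r) (u : G.U) (hu : LocallyOfFiniteType (G.U.fromSpecResidueField u))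
    (hd : topologicalKrullDim ↥(G.stabilizerToU.fiber u) < FlatMor.fibreDimAt G.s (G.e u)) :
    ∃ (U' : Scheme.{u}) (_ : IsAffine U') (g : U' ⟶ G.U) (u' : U') (p : ↑(pullback g G.t)), IsImmersion g ∧
      LocallyOfFinitePresentation g ∧ g u' = u ∧ pullback.fst g G.t p = u' ∧ pullback.snd g G.t p = G.e u ∧
      MoreMor.IsCMAt (pullback.snd g G.t ≫ G.s) p ∧
      FlatMor.fibreDimAt (pullback.snd g G.t ≫ G.s) p + 1 = FlatMor.fibreDimAt G.s (G.e u) := by
  have hte : G.t (G.e u) = u := by rw [← Scheme.Hom.comp_apply, G.e_t]; rfl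
  obtain ⟨V, hV, huV, hc⟩ := (SweepSix.mem_iff u).1 hu
  have hpV : G.t (G.e u) ∈ V := hte.symm ▸ huV
  have hmax : (hV.primeIdealOf ⟨G.t (G.e u), hpV⟩).asIdeal.IsMaximal := by
    rw [← PrimeSpectrum.isClosed_singleton_iff_isMaximal]
    have h2 := (hV.isoSpec.hom.homeomorph.isClosedMap _ hc)
    rw [Set.image_singleton] at h2
    have hsub : (⟨G.t (G.e u), hpV⟩ : V) = ⟨u, huV⟩ := Subtype.ext hte
    rw [hsub]
    exact h2
  obtain ⟨Φ, hΦ, hΦr⟩ := exists_stabilizer_embedding G u
  obtain ⟨U', hU', g, p, h1, h2, h3, h4, h5⟩ := exists_cut_of_smulScheme G.s G.t G.pU (G.t_over.trans G.s_over.symm) (G.e u)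
    (hs _) (isClosed_asFiber_unit G u hu) hV hpV hmax _ Φ hΦ hΦr hd
  refine ⟨U', hU', g, pullback.fst g G.t p, p, h1, h2, ?_, rfl, h3, h4, h5⟩
  rw [← Scheme.Hom.comp_apply, pullback.condition, Scheme.Hom.comp_apply, h3, hte]

end QFSectLib
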