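import Groth.Agent.QFSectLib.GrpdCutApp

/-! # Cutting the fibre dimension of a pair of maps by several equations -/

set_option autoImplicit false
universe u

open CategoryTheory Limits AlgebraicGeometry IsLocalRing Topology RingTheory.Sequence

namespace QFSectLib

/-- Quotients by a regular sequence from `m` until the bound is reached. -/
theorem exists_regular_seq_of_bound {A : Type u} [CommRing A] (m : Ideal A) (d : WithBot ℕ∞) :
    ∀ (n : ℕ) (G : Type u) [CommRing G] [IsLocalRing G] [IsNoetherianRing G] (π : A →+* G),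
      CommAlgDim.IsCM G → ringKrullDim G ≤ n → m.map π ≤ maximalIdeal G →
      (∀ P : Ideal G, P.IsPrime → m.map π ≤ P → ringKrullDim (G ⧸ P) ≤ d) →
      ∃ as : List A, (∀ a ∈ as, a ∈ m) ∧ IsWeaklyRegular G (as.map π) ∧
        LocCoh.IsCohenMacaulayLocalRing (G ⧸ Ideal.ofList (as.map π)) ∧
        ringKrullDim (G ⧸ Ideal.ofList (as.map π)) ≤ d := by
  have nil : ∀ (G : Type u) [CommRing G] [IsLocalRing G] [IsNoetherianRing G] (π : A →+* G),
      CommAlgDim.IsCM G → ringKrullDim G ≤ d → ∃ as : List A, (∀ a ∈ as, a ∈ m) ∧ IsWeaklyRegular G (as.map π) ∧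
        LocCoh.IsCohenMacaulayLocalRing (G ⧸ Ideal.ofList (as.map π)) ∧
        ringKrullDim (G ⧸ Ideal.ofList (as.map π)) ≤ d := by
    intro G _ _ _ π hG hd
    have e : (G ⧸ Ideal.ofList (([] : List A).map π)) ≃+* G :=
      (Ideal.quotEquivOfEq (by simp [Ideal.ofList_nil])).trans (RingEquiv.quotientBot G)
    exact ⟨[], by simp, IsWeaklyRegular.nil _ _,
      (CMFlatLib.isCohenMacaulayLocalRing_congr e).2 ((CMFlatLib.isCohenMacaulayLocalRing_iff_isCM _).2 hG),
      (ringKrullDim_eq_of_ringEquiv e).trans_le hd⟩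
  intro n
  induction n with
  | zero =>
    intro G _ _ _ π hG hd hm hbd
    refine nil G π hG ?_
    have h0 := hbd (maximalIdeal G) inferInstance hm
    rw [ringKrullDim_eq_zero_of_isField
      ((Ideal.Quotient.maximal_ideal_iff_isField_quotient _).1 inferInstance)] at h0
    exact hd.trans (by exact_mod_cast h0)
  | succ n ih =>
    intro G _ _ _ π hG hd hm hbd
    by_cases hgd : ringKrullDim G ≤ d
    · exact nil G π hG hgd
    obtain ⟨a, ha, hx⟩ := exists_regular_of_bound m π hG fun P hP hle => (hbd P hP hle).trans_lt (not_le.1 hgd)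
    have hxm : π a ∈ maximalIdeal G := hm (Ideal.mem_map_of_mem π ha)
    haveI : IsLocalRing (G ⧸ Ideal.span {π a}) := GorLib.isLocalRing_quotient
      (ne_top_of_le_ne_top (Ideal.IsMaximal.ne_top inferInstance) ((Ideal.span_singleton_le_iff_mem _).2 hxm))
    have h5 := ringKrullDim_quotient_span_singleton_succ_eq_ringKrullDim hx hxm
    let q := Ideal.Quotient.mk (Ideal.span {π a})
    obtain ⟨as, has, hreg, hcm, hz⟩ := ih (G ⧸ Ideal.span {π a}) (q.comp π)
      (CommAlgDim.IsCM.quotient_singleton hG hx hxm)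
      (by
        obtain ⟨e, he⟩ := CommAlgDim.exists_ringKrullDim_eq (R := G ⧸ Ideal.span {π a})
        rw [← h5, he] at hd
        rw [he]
        norm_cast at hd ⊢
        omega)
      (by rw [← Ideal.map_map, GorLib.maximalIdeal_quotient]; exact Ideal.map_mono hm)
      (fun P hP hle => by
        let ψ : (G ⧸ P.comap q) →+* (G ⧸ Ideal.span {π a}) ⧸ P :=
          Ideal.quotientMap P q le_rfl
        have hψ : Function.Bijective ψ :=
          ⟨Ideal.quotientMap_injective, Ideal.quotientMap_surjective Ideal.Quotient.mk_surjective⟩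
        rw [← ringKrullDim_eq_of_ringEquiv (RingEquiv.ofBijective ψ hψ)]
        refine hbd _ (Ideal.IsPrime.comap q) ?_
        rw [← Ideal.map_le_iff_le_comap, Ideal.map_map]
        exact hle)
    have hI : Ideal.ofList (as.map (q.comp π)) = (Ideal.ofList (as.map π)).map q := by
      rw [Ideal.map_ofList, List.map_map]
      rfl
    let e := ((Ideal.quotEquivOfEq hI).trans (DoubleQuot.quotQuotEquivQuotSup _ _)).trans
      (Ideal.quotEquivOfEq (show Ideal.span {π a} ⊔ Ideal.ofList (as.map π) = Ideal.ofList ((a :: as).map π) by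
        rw [List.map_cons, Ideal.ofList_cons]))
    refine ⟨a :: as, List.forall_mem_cons.2 ⟨ha, has⟩, ?_, (CMFlatLib.isCohenMacaulayLocalRing_congr e).1 hcm,
      (ringKrullDim_eq_of_ringEquiv e).symm.trans_le hz⟩
    rw [List.map_cons, CMFlatLib.isWeaklyRegular_cons_ring]
    refine ⟨hx, ?_⟩
    rw [List.map_map]
    exact hreg

theorem exists_cut_seq {R U : Scheme.{u}} (s t : R ⟶ U) [LocallyOfFinitePresentation s]
    {S₀ : Scheme.{u}} (pU : U ⟶ S₀) (hw : t ≫ pU = s ≫ pU)
    (p : R) (hcm : MoreMor.IsCMAt s p) (hcl : IsClosed ({s.asFiber p} : Set ↑(s.fiber (s p))))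
    {V : U.Opens} (hV : IsAffineOpen V) (hpV : t p ∈ V) (hmax : (hV.primeIdealOf ⟨t p, hpV⟩).asIdeal.IsMaximal)
    (X : Type u) [TopologicalSpace X] [T0Space X] (Φ : X → R) (hΦ : IsEmbedding Φ)
    (hΦr : ∀ z, pullback.lift t s hw z = pullback.lift t s hw p → z ∈ Set.range Φ)
    :
    ∃ (U' : Scheme.{u}) (_ : IsAffine U') (g : U' ⟶ U) (p' : ↑(pullback g t)), IsImmersion g ∧
      LocallyOfFinitePresentation g ∧ pullback.snd g t p' = p ∧
      MoreMor.IsCMAt (pullback.snd g t ≫ s) p' ∧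
      FlatMor.fibreDimAt (pullback.snd g t ≫ s) p' ≤ topologicalKrullDim X := by
  have hdimp : FlatMor.fibreDimAt s p = _ := fibreDimAt_of_isClosed s p hcl
  obtain ⟨hflat, hcm⟩ := hcm
  obtain ⟨_, ⟨U₀, hU₀, rfl⟩, hpU₀, -⟩ :=
    U.isBasis_affineOpens.exists_subset_of_mem_open (Set.mem_univ (s p)) isOpen_univ
  obtain ⟨_, ⟨B, hB, rfl⟩, hpB, hBsub⟩ := R.isBasis_affineOpens.exists_subset_of_mem_open
    (show p ∈ (s ⁻¹ᵁ U₀ ⊓ t ⁻¹ᵁ V : R.Opens) from ⟨hpU₀, hpV⟩) (s ⁻¹ᵁ U₀ ⊓ t ⁻¹ᵁ V).2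
  have hBU : B ≤ s ⁻¹ᵁ U₀ := fun z hz ↦ (hBsub hz).1
  have hBV : B ≤ t ⁻¹ᵁ V := fun z hz ↦ (hBsub hz).2
  have hfp := s.finitePresentation_appLE hU₀ hB hBU
  algebraize [(s.appLE U₀ B hBU).hom]
  let q := hB.primeIdealOf ⟨p, hpB⟩
  let m := (hV.primeIdealOf ⟨t p, hpV⟩).asIdeal
  haveI : m.IsMaximal := hmax
  let τ := (t.appLE V B hBV).hom
  have hqx : hB.fromSpec q = p := hB.fromSpec_primeIdealOf ⟨p, hpB⟩
  have hqm : PrimeSpectrum.comap τ q = hV.primeIdealOf ⟨t p, hpV⟩ := hV.fromSpec.isOpenEmbedding.injective (by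
    show (Spec.map (t.appLE V B hBV) ≫ hV.fromSpec) q = hV.fromSpec _
    rw [IsAffineOpen.SpecMap_appLE_fromSpec t hV hB hBV, Scheme.Hom.comp_apply, hqx, hV.fromSpec_primeIdealOf])
  let L := Localization.AtPrime q.asIdeal
  let pR := q.asIdeal.comap (algebraMap Γ(U, U₀) Γ(R, B))
  let I := pR.map (algebraMap Γ(U, U₀) L)
  let G := L ⧸ I
  let π : Γ(R, B) →+* G := (Ideal.Quotient.mk I).comp (algebraMap Γ(R, B) L)
  obtain ⟨e⟩ := FlatLib.nonempty_fibreStalk_ringEquiv s hU₀ hB hBU rfl p hpB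
  haveI := hcm
  haveI := SMTLib.isCohenMacaulayLocalRing_of_ringEquiv e
  have hG : CommAlgDim.IsCM G := SMTLib.isCM_of_isCohenMacaulayLocalRing _
  have hdG : FlatMor.fibreDimAt s p = ringKrullDim G := by
    rw [hdimp]
    obtain ⟨e'⟩ := CMFlatLib.nonempty_fibre_equiv s p
    exact ringKrullDim_eq_of_ringEquiv (e'.symm.trans e)
  -- the points over `V(m)` lie in the fibre of the pair
  have hfac : ∀ Q : PrimeSpectrum G, m.map (π.comp τ) ≤ Q.asIdeal →
      hB.fromSpec (PrimeSpectrum.comap π Q) ∈ Set.range Φ := by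
    intro Q hQ
    let P := PrimeSpectrum.comap π Q
    have hPq : P.asIdeal ≤ q.asIdeal := by
      show Ideal.comap π Q.asIdeal ≤ _
      refine le_trans ?_ (le_of_eq (IsLocalization.AtPrime.under_maximalIdeal L q.asIdeal))
      rw [← Ideal.comap_comap]
      exact Ideal.comap_mono (IsLocalRing.le_maximalIdeal (Ideal.IsPrime.comap _).ne_top)
    have hpP : P.asIdeal.comap (algebraMap Γ(U, U₀) Γ(R, B)) = pR := by
      refine le_antisymm (Ideal.comap_mono hPq) fun r hr => ?_
      show Ideal.Quotient.mk I (algebraMap Γ(R, B) L (algebraMap Γ(U, U₀) Γ(R, B) r)) ∈ Q.asIdeal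
      rw [← IsScalarTower.algebraMap_apply, Ideal.Quotient.eq_zero_iff_mem.2 (Ideal.mem_map_of_mem _ hr)]
      exact zero_mem _
    have hmP : m.map τ ≤ P.asIdeal := by
      show m.map τ ≤ Ideal.comap π Q.asIdeal
      rw [← Ideal.map_le_iff_le_comap, Ideal.map_map]
      exact hQ
    obtain ⟨D, Lk, _, _, ψ, ι, ρ, σ, x, y, _, h1, h2, hx, hy⟩ :=
      exists_field_factor (R := Γ(U, U₀)) τ m P q hPq hpP hmP
    refine hΦr _ ?_
    have := j_eq_of_factor s t pU hw p hV hU₀ hB hBU hBV hpB D Lk ψ ι ρ σ x y h1 h2 hy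
    rwa [hx] at this
  have hbound : ∀ P : Ideal G, P.IsPrime → m.map (π.comp τ) ≤ P → ringKrullDim (G ⧸ P) ≤ topologicalKrullDim X := by
    intro P _ hP
    refine ringKrullDim_quotient_le P (fun Q hQ => (hfac Q (hP.trans hQ)).choose) ?_ ?_
    · intro Q Q' hQ hQ' hle
      rw [← hΦ.isInducing.specializes_iff, (hfac Q (hP.trans hQ)).choose_spec, (hfac Q' (hP.trans hQ')).choose_spec]
      exact ((PrimeSpectrum.le_iff_specializes _ _).1 (Ideal.comap_mono hle :
        PrimeSpectrum.comap π Q ≤ PrimeSpectrum.comap π Q')).map hB.fromSpec.continuous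
    · intro Q Q' hQ hQ' h
      have h' := congrArg Φ h
      rw [(hfac Q (hP.trans hQ)).choose_spec, (hfac Q' (hP.trans hQ')).choose_spec] at h'
      have h'' := hB.fromSpec.isOpenEmbedding.injective h'
      have hinj1 := PrimeSpectrum.comap_injective_of_surjective (Ideal.Quotient.mk I) Ideal.Quotient.mk_surjective
      exact hinj1 (PrimeSpectrum.localization_comap_injective L q.asIdeal.primeCompl h'')
  have hmq : m.map (π.comp τ) ≤ maximalIdeal G := by
    rw [← Ideal.map_map, GorLib.maximalIdeal_quotient, ← Ideal.map_map]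
    refine Ideal.map_mono (Ideal.map_le_iff_le_comap.2 ?_)
    refine le_trans ?_ (IsLocalization.AtPrime.under_maximalIdeal L q.asIdeal).ge
    exact Ideal.map_le_iff_le_comap.2 (congrArg PrimeSpectrum.asIdeal hqm).ge
  obtain ⟨n, hn⟩ := CommAlgDim.exists_ringKrullDim_eq (R := G)
  obtain ⟨as, has, hreg, hcmC, hdimC⟩ :=
    exists_regular_seq_of_bound m (topologicalKrullDim X) n G (π.comp τ) hG hn.le hmq hbound
  let bs := as.map τ
  let J : Ideal Γ(R, B) := (Ideal.ofList as).map τ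
  have hJ : J = Ideal.ofList bs := Ideal.map_ofList _ _
  have hbq : ∀ b ∈ bs, b ∈ q.asIdeal := by
    intro b hb
    obtain ⟨a, ha, rfl⟩ := List.mem_map.1 hb
    exact (congrArg PrimeSpectrum.asIdeal hqm).ge (has a ha)
  have hflatq : q ∈ FlatLib.flatLocus Γ(U, U₀) Γ(R, B) Γ(R, B) := by
    have h := isCMAt_comp_isOpenImmersion_iff (𝟙 _)
      (Spec.map (CommRingCat.ofHom (algebraMap Γ(U, U₀) Γ(R, B)))) hU₀.fromSpec q
    have h' := isCMAt_comp_isOpenImmersion_iff hB.fromSpec s (𝟙 _) q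
    rw [Category.id_comp, show Spec.map (CommRingCat.ofHom (algebraMap Γ(U, U₀) Γ(R, B))) ≫ hU₀.fromSpec =
      hB.fromSpec ≫ s from IsAffineOpen.SpecMap_appLE_fromSpec s hU₀ hB hBU] at h
    rw [Category.comp_id, hqx] at h'
    exact ((isCMAt_specMap_iff q).1 (h.1 (h'.2 ⟨hflat, hcm⟩))).1
  have hπ : ∀ (K : Ideal Γ(R, B)) (x : Γ(R, B)), π x ∈ K.map π ↔
      ∃ w ∉ q.asIdeal, w * x ∈ K ⊔ pR.map (algebraMap Γ(U, U₀) Γ(R, B)) := by
    intro K x
    rw [show K.map π = (K.map (algebraMap Γ(R, B) L)).map (Ideal.Quotient.mk I) from (Ideal.map_map _ _).symm,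
      ← Ideal.mem_comap, ← Ideal.comap_comap, Ideal.comap_map_of_surjective _ Ideal.Quotient.mk_surjective,
      show Ideal.comap (Ideal.Quotient.mk I) ⊥ = I from Ideal.mk_ker,
      show I = (pR.map (algebraMap Γ(U, U₀) Γ(R, B))).map (algebraMap Γ(R, B) L) from by
        rw [Ideal.map_map, ← IsScalarTower.algebraMap_eq], ← Ideal.map_sup, Ideal.mem_comap,
      IsLocalization.algebraMap_mem_map_algebraMap_iff q.asIdeal.primeCompl]
    rfl
  obtain ⟨W, -, hqW, -, hWflat⟩ := FlatLib.exists_open_slices q bs hbq hflatq (fun i hi x hx => by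
    have hi' : i < (as.map (π.comp τ)).length := by simpa [bs] using hi
    have hmapi : (Ideal.ofList (bs.take i)).map π = Ideal.ofList ((as.map (π.comp τ)).take i) := by
      rw [Ideal.map_ofList, List.map_take, List.map_map]
      rfl
    rw [← hπ] at hx ⊢
    rw [hmapi] at hx ⊢
    have hw := (isWeaklyRegular_iff G _).mp hreg i hi'
    have h0 : (Submodule.Quotient.mk (π x) : G ⧸ (Ideal.ofList ((as.map (π.comp τ)).take i) • (⊤ : Submodule G G))) = 0 := by
      refine hw (Eq.trans ?_ (smul_zero _).symm)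
      show (as.map (π.comp τ))[i] • Submodule.Quotient.mk (π x) = _
      rw [← Submodule.Quotient.mk_smul, Submodule.Quotient.mk_eq_zero, Ideal.smul_eq_mul, Ideal.mul_top,
        smul_eq_mul, List.getElem_map, RingHom.comp_apply, ← map_mul]
      simpa [bs] using hx
    rwa [Submodule.Quotient.mk_eq_zero, Ideal.smul_eq_mul, Ideal.mul_top] at h0) bs.length le_rfl
  rw [List.take_length] at hWflat
  have hflat' : q ∈ FlatLib.flatLocus Γ(U, U₀) Γ(R, B) (Γ(R, B) ⧸ J) := by
    rw [hJ]; exact hWflat q hqW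
  have hJq : J ≤ q.asIdeal := by
    rw [hJ]; exact Ideal.span_le.2 hbq
  obtain ⟨q₁, hq₁⟩ : q ∈ Set.range (PrimeSpectrum.comap (Ideal.Quotient.mk J)) := by
    rw [range_comap_of_surjective _ _ Ideal.Quotient.mk_surjective, Ideal.mk_ker]
    exact hJq
  have hpC : q₁.asIdeal.comap (algebraMap Γ(U, U₀) (Γ(R, B) ⧸ J)) = pR := by
    show Ideal.comap ((Ideal.Quotient.mk J).comp (algebraMap Γ(U, U₀) Γ(R, B))) q₁.asIdeal = _
    rw [← Ideal.comap_comap]
    exact congrArg (Ideal.comap _) (congrArg PrimeSpectrum.asIdeal hq₁)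
  have hflat₁ : q₁ ∈ FlatLib.flatLocus Γ(U, U₀) (Γ(R, B) ⧸ J) (Γ(R, B) ⧸ J) := by
    refine (FlatLib.flat_localized_iff q₁.asIdeal.primeCompl (LocalizedModule.mkLinearMap _ _)).mpr
      fun P _ _ N x hx ↦ ?_
    obtain ⟨w, hw', htx⟩ := (FlatLib.flat_localized_iff q.asIdeal.primeCompl
      (LocalizedModule.mkLinearMap _ _)).mp hflat' P N x hx
    refine ⟨Ideal.Quotient.mk J w, fun hmem => hw' (hq₁ ▸ hmem), ?_⟩
    rw [← htx]
    exact algebraMap_smul (Γ(R, B) ⧸ J) w x
  obtain ⟨e₁⟩ := nonempty_fib_quot_equiv J q q₁ hq₁ pR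
  have hJG : J.map π = Ideal.ofList (as.map (π.comp τ)) := by
    rw [hJ, Ideal.map_ofList, List.map_map]
    rfl
  let e₂ := e₁.trans (Ideal.quotEquivOfEq hJG)
  have hcm₁ : MoreMor.IsCMAt (Spec.map (CommRingCat.ofHom (algebraMap Γ(U, U₀) (Γ(R, B) ⧸ J)))) q₁ := by
    rw [isCMAt_specMap_iff]
    refine ⟨hflat₁, ?_⟩
    rw [hpC]
    exact (CMFlatLib.isCohenMacaulayLocalRing_congr e₂).2 hcmC
  -- the scheme
  let mkA := CommRingCat.ofHom (Ideal.Quotient.mk ((Ideal.ofList as)))
  let mkL := CommRingCat.ofHom (Ideal.Quotient.mk J)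
  haveI : LocallyOfFinitePresentation (Spec.map mkA) := HasRingHomProperty.Spec_iff.mpr
    (RingHom.FinitePresentation.of_surjective _ Ideal.Quotient.mk_surjective (by
      show (RingHom.ker (Ideal.Quotient.mk _)).FG
      rw [Ideal.mk_ker]; exact Submodule.fg_span (List.finite_toSet _)))
  let g := Spec.map mkA ≫ hV.fromSpec
  haveI : IsClosedImmersion (Spec.map mkA) := IsClosedImmersion.spec_of_surjective _ Ideal.Quotient.mk_surjective
  have hsq := isPullback_SpecMap_of_isPushout _ _ _ _ (isPushout_quotient τ ((Ideal.ofList as)))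
  have hbig : IsPullback (Spec.map (CommRingCat.ofHom (Ideal.quotientMap J τ Ideal.le_comap_map)))
      (Spec.map mkL) g (hB.fromSpec ≫ t) := by
    rw [← IsAffineOpen.SpecMap_appLE_fromSpec t hV hB hBV]
    exact isPullback_comp_mono hsq hV.fromSpec
  let j : Spec (CommRingCat.of (Γ(R, B) ⧸ J)) ⟶ pullback g t :=
    pullback.lift (Spec.map (CommRingCat.ofHom (Ideal.quotientMap J τ Ideal.le_comap_map)))
      (Spec.map mkL ≫ hB.fromSpec) (by rw [hbig.w, Category.assoc])
  have hjsq : IsPullback j (Spec.map mkL) (pullback.snd g t) hB.fromSpec := by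
    refine IsPullback.of_right ?_ (pullback.lift_snd _ _ _) (IsPullback.of_hasPullback g t)
    rw [pullback.lift_fst]
    exact hbig
  haveI hj : IsOpenImmersion j := MorphismProperty.of_isPullback hjsq.flip inferInstance
  have hjs : j ≫ pullback.snd g t ≫ s =
      Spec.map (CommRingCat.ofHom (algebraMap Γ(U, U₀) (Γ(R, B) ⧸ J))) ≫ hU₀.fromSpec := by
    rw [← Category.assoc, pullback.lift_snd, show CommRingCat.ofHom (algebraMap Γ(U, U₀) (Γ(R, B) ⧸ J)) =
      s.appLE U₀ B hBU ≫ mkL from rfl, Spec.map_comp, Category.assoc, Category.assoc,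
      IsAffineOpen.SpecMap_appLE_fromSpec s hU₀ hB hBU]
  let p' := j q₁
  have hp' : pullback.snd g t p' = p := by
    rw [← Scheme.Hom.comp_apply, pullback.lift_snd, Scheme.Hom.comp_apply, ← hqx, ← hq₁]
    rfl
  have hh : MoreMor.IsCMAt (pullback.snd g t ≫ s) p' := isCMAt_of_chart j _ hU₀.fromSpec q₁ hjs hcm₁
  refine ⟨_, inferInstance, g, p', inferInstance, inferInstance, hp', hh, ?_⟩
  haveI : LocallyOfFiniteType (pullback.snd g t ≫ s) := inferInstance
  have hcl' : IsClosed ({(pullback.snd g t ≫ s).asFiber p'} : Set _) := by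
    haveI : IsImmersion (pullback.snd g t) := MorphismProperty.pullback_snd _ _ inferInstance
    refine isClosed_asFiber_comp _ (pullback.snd g t).isEmbedding s p' ?_
    rw [hp']; exact hcl
  rw [fibreDimAt_of_chart j (pullback.snd g t ≫ s) hU₀.fromSpec q₁ hjs hcl', hpC]
  exact (ringKrullDim_eq_of_ringEquiv e₂).trans_le hdimC

end QFSectLib
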