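import Groth.Agent.QFSectLib.GrpdCutSeq
import Groth.Agent.FibDimLib.SchemeInv
import Groth.Agent.FibDimLib.TopLocalDim
import Groth.Agent.FibDimLib.Semicont
import Groth.Agent.FibDimLib.Apps

/-! # Maximal slices of groupoid schemes -/

set_option autoImplicit false
universe u

open CategoryTheory Limits AlgebraicGeometry Topology

namespace QFSectLib

variable {S : Scheme.{u}} (G : Grpd.GroupoidScheme S)

theorem e_comp_j : G.e ≫ G.j = G.diag := by
  apply pullback.hom_ext
  · rw [Category.assoc, Grpd.GroupoidScheme.j, Grpd.GroupoidScheme.diag, pullback.lift_fst, pullback.lift_fst, G.e_t]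
  · rw [Category.assoc, Grpd.GroupoidScheme.j, Grpd.GroupoidScheme.diag, pullback.lift_snd, pullback.lift_snd, G.e_s]

theorem j_fst : G.j ≫ pullback.fst G.pU G.pU = G.t := pullback.lift_fst _ _ _

theorem j_snd : G.j ≫ pullback.snd G.pU G.pU = G.s := pullback.lift_snd _ _ _

theorem diag_fst : G.diag ≫ pullback.fst G.pU G.pU = 𝟙 _ := pullback.lift_fst _ _ _

theorem diag_snd : G.diag ≫ pullback.snd G.pU G.pU = 𝟙 _ := pullback.lift_snd _ _ _

/-- The inclusion of the stabilizer into the arrows. -/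
noncomputable def stabι : G.stabilizer ⟶ G.R := pullback.fst G.j G.diag

theorem stab_isPullback : IsPullback (stabι G) G.stabilizerToU G.j G.diag := IsPullback.of_hasPullback _ _

theorem stabι_t : stabι G ≫ G.t = G.stabilizerToU := by
  rw [← j_fst, ← Category.assoc, (stab_isPullback G).w, Category.assoc, diag_fst, Category.comp_id]

theorem stabι_s : stabι G ≫ G.s = G.stabilizerToU := by
  rw [← j_snd, ← Category.assoc, (stab_isPullback G).w, Category.assoc, diag_snd, Category.comp_id]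

theorem eStab_ι : G.eStab ≫ stabι G = G.e := pullback.lift_fst _ _ _

theorem eStab_π : G.eStab ≫ G.stabilizerToU = 𝟙 _ := pullback.lift_snd _ _ _

theorem lft_j [LocallyOfFiniteType G.s] : LocallyOfFiniteType G.j := by
  haveI : LocallyOfFiniteType (G.j ≫ pullback.snd G.pU G.pU) := by
    rw [Grpd.GroupoidScheme.j, pullback.lift_snd]; infer_instance
  exact locallyOfFiniteType_of_comp _ (pullback.snd G.pU G.pU)

/-- The fibres of the stabilizer are homogeneous in dimension. -/
theorem fibreDimAt_stabilizer_eq [LocallyOfFiniteType G.s] (z : G.stabilizer) :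
    FlatMor.fibreDimAt G.stabilizerToU z = FlatMor.fibreDimAt G.stabilizerToU (G.eStab (G.stabilizerToU z)) := by
  haveI := lft_j G
  haveI : LocallyOfFiniteType G.stabilizerToU := MorphismProperty.pullback_snd _ _ inferInstance
  let D := pullback G.j G.j
  let q₁ : D ⟶ G.R := pullback.fst G.j G.j
  let q₂ : D ⟶ G.R := pullback.snd G.j G.j
  have hq : q₁ ≫ G.j = q₂ ≫ G.j := pullback.condition
  have hqt : q₁ ≫ G.t = q₂ ≫ G.t := by rw [← j_fst, reassoc_of% hq]
  have hqs : q₁ ≫ G.s = q₂ ≫ G.s := by rw [← j_snd, reassoc_of% hq]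
  have hP : IsPullback (pullback.fst G.s G.s) (pullback.snd G.s G.s) G.s G.s := IsPullback.of_hasPullback _ _
  have hw : pullback.snd G.s G.s ≫ G.s = (pullback.fst G.s G.s ≫ G.i) ≫ G.t := by
    rw [Category.assoc, G.i_t, hP.w]
  let f := pullback.lift (pullback.snd G.s G.s) (pullback.fst G.s G.s ≫ G.i) hw ≫ G.c
  have hdiv : IsPullback (pullback.fst G.s G.s) f G.t G.s := GrpdLib.isPullback_div G _ _ hP
  let m : D ⟶ pullback G.s G.s := pullback.lift q₁ q₂ hqs
  have m1 : m ≫ pullback.fst G.s G.s = q₁ := pullback.lift_fst _ _ _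
  have m2 : m ≫ pullback.snd G.s G.s = q₂ := pullback.lift_snd _ _ _
  have hft : f ≫ G.t = pullback.snd G.s G.s ≫ G.t := G.comp_t _ _ hw
  have hfs : f ≫ G.s = pullback.fst G.s G.s ≫ G.t := hdiv.w.symm
  have hmf : (m ≫ f) ≫ G.j = (q₁ ≫ G.t) ≫ G.diag := by
    apply pullback.hom_ext
    · simp only [Category.assoc, j_fst, diag_fst, Category.comp_id]
      rw [hft, reassoc_of% m2, hqt]
    · simp only [Category.assoc, j_snd, diag_snd, Category.comp_id]
      rw [hfs, reassoc_of% m1]
  let φ : D ⟶ G.stabilizer := (stab_isPullback G).lift (m ≫ f) (q₁ ≫ G.t) hmf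
  have hφ : φ ≫ stabι G = m ≫ f := (stab_isPullback G).lift_fst _ _ _
  have hφπ : φ ≫ G.stabilizerToU = q₁ ≫ G.t := (stab_isPullback G).lift_snd _ _ _
  have hD : IsPullback φ q₁ G.stabilizerToU G.t := by
    refine IsPullback.of_isLimit' ⟨hφπ⟩ (PullbackCone.IsLimit.mk _ (fun c => pullback.lift c.snd
      (hdiv.lift c.snd (c.fst ≫ stabι G) ?_ ≫ pullback.snd G.s G.s) ?_) (fun c => ?_) (fun c => ?_)
      (fun c n h1 h2 => ?_))
    · rw [Category.assoc, stabι_s]
      exact c.condition.symm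
    · generalize hx : hdiv.lift c.snd (c.fst ≫ stabι G) _ = x
      have x1 : x ≫ pullback.fst G.s G.s = c.snd := by rw [← hx, hdiv.lift_fst]
      have x2 : x ≫ f = c.fst ≫ stabι G := by rw [← hx, hdiv.lift_snd]
      apply pullback.hom_ext
      · simp only [Category.assoc, j_fst]
        rw [← hft, reassoc_of% x2, stabι_t]
        exact c.condition.symm
      · simp only [Category.assoc, j_snd]
        rw [← hP.w, reassoc_of% x1]
    · refine (stab_isPullback G).hom_ext ?_ ?_
      · rw [Category.assoc, hφ]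
        refine Eq.trans ?_ (hdiv.lift_snd c.snd (c.fst ≫ stabι G) (by
          rw [Category.assoc, stabι_s]; exact c.condition.symm))
        rw [← Category.assoc]
        congr 1
        exact hP.hom_ext (by rw [Category.assoc, m1, pullback.lift_fst, hdiv.lift_fst]) (by rw [Category.assoc, m2, pullback.lift_snd])
      · rw [Category.assoc, hφπ, ← Category.assoc, pullback.lift_fst]
        exact c.condition.symm
    · exact pullback.lift_fst _ _ _
    · refine pullback.hom_ext ?_ ?_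
      · rw [pullback.lift_fst]; exact h2
      · rw [pullback.lift_snd]
        show n ≫ q₂ = _
        rw [← m2, ← Category.assoc]
        congr 1
        refine hdiv.hom_ext ?_ ?_
        · rw [Category.assoc, m1, hdiv.lift_fst]; exact h2
        · rw [hdiv.lift_snd, Category.assoc, ← hφ, ← Category.assoc, h1]
  let δ : G.R ⟶ D := pullback.lift (𝟙 _) (𝟙 _) rfl
  have d1 : δ ≫ q₁ = 𝟙 _ := pullback.lift_fst _ _ _
  have d2 : δ ≫ q₂ = 𝟙 _ := pullback.lift_snd _ _ _
  have hδ : δ ≫ φ = G.t ≫ G.eStab := by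
    refine (stab_isPullback G).hom_ext ?_ ?_
    · rw [Category.assoc, hφ, Category.assoc, eStab_ι]
      have hm : δ ≫ m ≫ pullback.lift (pullback.snd G.s G.s) (pullback.fst G.s G.s ≫ G.i) hw =
          pullback.lift (𝟙 G.R) (𝟙 G.R ≫ G.i) (by rw [Category.assoc, G.i_t]) := by
        apply pullback.hom_ext
        · simp only [Category.assoc, pullback.lift_fst]
          rw [m2, d2]
        · simp only [Category.assoc, pullback.lift_snd]
          rw [reassoc_of% m1, reassoc_of% d1, Category.id_comp]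
      show δ ≫ m ≫ pullback.lift (pullback.snd G.s G.s) (pullback.fst G.s G.s ≫ G.i) hw ≫ G.c = _
      rw [← Category.assoc m, ← Category.assoc δ, hm, G.comp_i, Category.id_comp]
    · rw [Category.assoc, hφπ, Category.assoc, eStab_π, Category.comp_id, ← Category.assoc, d1, Category.id_comp]
  let a := stabι G z
  have hz : G.t a = G.stabilizerToU z := by rw [← stabι_t G]; rfl
  have e₁ : q₂ (δ a) = a := by rw [← Scheme.Hom.comp_apply, d2]; rfl
  have e₂ : φ (δ a) = G.eStab (G.stabilizerToU z) := by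
    rw [← Scheme.Hom.comp_apply, hδ, Scheme.Hom.comp_apply, hz]
  rw [FibDimLib.fibreDimAt_baseChange (stab_isPullback G) z, ← e₂]
  show FlatMor.fibreDimAt G.j a = _
  exact (congrArg (FlatMor.fibreDimAt G.j) e₁.symm).trans
    ((FibDimLib.fibreDimAt_baseChange (IsPullback.of_hasPullback G.j G.j).flip (δ a)).symm.trans
      (FibDimLib.fibreDimAt_baseChange hD (δ a)))

theorem topologicalKrullDim_stabilizer_fiber [LocallyOfFiniteType G.s] (u : G.U) :
    topologicalKrullDim ↥(G.stabilizerToU.fiber u) ≤ FlatMor.fibreDimAt G.stabilizerToU (G.eStab u) := by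
  rw [FibDimLib.topologicalKrullDim_eq_iSup_localDim]
  refine iSup_le fun w => ?_
  rw [← FibDimLib.fibreDimAt_fiberι, fibreDimAt_stabilizer_eq G]
  have hw : G.stabilizerToU (G.stabilizerToU.fiberι u w) = u :=
    (G.stabilizerToU.range_fiberι u).le ⟨w, rfl⟩
  exact le_of_eq (congrArg (fun v => FlatMor.fibreDimAt G.stabilizerToU (G.eStab v)) hw)

theorem stabilizer_le_fibreDimAt [LocallyOfFiniteType G.s] {U' : Scheme.{u}} (g : U' ⟶ G.U) [IsImmersion g]
    (u : G.U) (u' : U') (hu' : g u' = u) (p : ↑(pullback g G.t)) (hp : pullback.snd g G.t p = G.e u) :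
    topologicalKrullDim ↥(G.stabilizerToU.fiber u) ≤ FlatMor.fibreDimAt (pullback.snd g G.t ≫ G.s) p := by
  have hi := (pullback.snd g G.t).isEmbedding
  let w0 : G.stabilizerToU.fiber (G.stabilizerToU (G.eStab u)) := G.stabilizerToU.asFiber (G.eStab u)
  have hst : ∀ z : G.stabilizer, G.t (stabι G z) = G.stabilizerToU z ∧ G.s (stabι G z) = G.stabilizerToU z :=
    fun z => ⟨by rw [← Scheme.Hom.comp_apply, stabι_t], by rw [← Scheme.Hom.comp_apply, stabι_s]⟩
  have heu : G.stabilizerToU (G.eStab u) = u := by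
    rw [← Scheme.Hom.comp_apply, eStab_π]; rfl
  have hsp : (pullback.snd g G.t ≫ G.s) p = u := by
    rw [Scheme.Hom.comp_apply, hp, ← Scheme.Hom.comp_apply, G.e_s]; rfl
  have hmem : ∀ v : G.stabilizerToU.fiber u, ∃ y : (pullback.snd g G.t ≫ G.s).fiber ((pullback.snd g G.t ≫ G.s) p),
      pullback.snd g G.t ((pullback.snd g G.t ≫ G.s).fiberι _ y) = stabι G (G.stabilizerToU.fiberι u v) := by
    intro v
    have hv : G.stabilizerToU (G.stabilizerToU.fiberι u v) = u := (G.stabilizerToU.range_fiberι u).le ⟨v, rfl⟩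
    obtain ⟨h1, h2⟩ := hst (G.stabilizerToU.fiberι u v)
    obtain ⟨x, -, hx2⟩ := Scheme.Pullback.exists_preimage_pullback (f := g) (g := G.t) u'
      (stabι G (G.stabilizerToU.fiberι u v)) (by rw [h1, hv, hu'])
    obtain ⟨y, hy⟩ : x ∈ Set.range ((pullback.snd g G.t ≫ G.s).fiberι ((pullback.snd g G.t ≫ G.s) p)) := by
      rw [(pullback.snd g G.t ≫ G.s).range_fiberι]
      show (pullback.snd g G.t ≫ G.s) x = _
      rw [Scheme.Hom.comp_apply, hx2, h2, hv, hsp]
    exact ⟨y, by rw [hy, hx2]⟩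
  choose Ψ hΨ using hmem
  haveI : IsImmersion G.diag := inferInstanceAs (IsImmersion (pullback.diagonal G.pU))
  haveI : IsImmersion (stabι G) := MorphismProperty.of_isPullback (stab_isPullback G).flip inferInstance
  have hΦ := (stabι G).isEmbedding.comp (G.stabilizerToU.fiberι u).isEmbedding
  have hout := hi.comp ((pullback.snd g G.t ≫ G.s).fiberι ((pullback.snd g G.t ≫ G.s) p)).isEmbedding
  have hcomp : (fun y => pullback.snd g G.t ((pullback.snd g G.t ≫ G.s).fiberι _ y)) ∘ Ψ =
      fun v => stabι G (G.stabilizerToU.fiberι u v) := funext hΨ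
  have hΨi : IsInducing Ψ := by
    rw [← hout.isInducing.of_comp_iff]
    exact hcomp ▸ hΦ.isInducing
  obtain ⟨w, hw⟩ : G.eStab u ∈ Set.range (G.stabilizerToU.fiberι u) := by
    rw [G.stabilizerToU.range_fiberι]; exact heu
  refine (topologicalKrullDim_stabilizer_fiber G u).trans ?_
  rw [← hw, FibDimLib.fibreDimAt_fiberι]
  refine (FibDimLib.localDim_le_of_isInducing hΨi w).trans (le_of_eq ?_)
  have hwp : Ψ w = (pullback.snd g G.t ≫ G.s).asFiber p := by
    refine hout.injective ?_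
    show pullback.snd g G.t ((pullback.snd g G.t ≫ G.s).fiberι _ (Ψ w)) =
      pullback.snd g G.t ((pullback.snd g G.t ≫ G.s).fiberι _ ((pullback.snd g G.t ≫ G.s).asFiber p))
    rw [hΨ, hw, Scheme.Hom.fiberι_asFiber, hp, ← Scheme.Hom.comp_apply, eStab_ι]
  rw [hwp]
  rfl

/-- A maximal slice. -/
theorem exists_grpd_max_slice [LocallyOfFinitePresentation G.s] [LocallyOfFinitePresentation G.t]
    (hs : ∀ r, MoreMor.IsCMAt G.s r) (u : G.U) (hu : LocallyOfFiniteType (G.U.fromSpecResidueField u)) :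
    ∃ (U' : Scheme.{u}) (_ : IsAffine U') (g : U' ⟶ G.U) (u' : U') (p : ↑(pullback g G.t)), IsImmersion g ∧
      LocallyOfFinitePresentation g ∧ g u' = u ∧ pullback.fst g G.t p = u' ∧ pullback.snd g G.t p = G.e u ∧
      (∀ q, MoreMor.IsCMAt (pullback.snd g G.t ≫ G.s) q) ∧ LocallyOfFinitePresentation (pullback.snd g G.t ≫ G.s) ∧
      (∀ q, MoreMor.IsCMAt (pullback.snd (pullback.snd g G.t ≫ G.s) g) q) ∧
      LocallyOfFinitePresentation (pullback.snd (pullback.snd g G.t ≫ G.s) g) ∧
      (∀ q, MoreMor.IsCMAt (pullback.fst (pullback.snd g G.t ≫ G.s) g ≫ pullback.fst g G.t) q) ∧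
      LocallyOfFinitePresentation (pullback.fst (pullback.snd g G.t ≫ G.s) g ≫ pullback.fst g G.t) ∧
      FlatMor.fibreDimAt (pullback.snd g G.t ≫ G.s) p = topologicalKrullDim ↥(G.stabilizerToU.fiber u) := by
  haveI : Flat G.s := Flat.of_stalkMap _ fun r => (hs r).1
  haveI := GrpdLib.isIso_i G
  haveI : Flat G.t := GrpdLib.t_eq G ▸ inferInstance
  have hte : G.t (G.e u) = u := by rw [← Scheme.Hom.comp_apply, G.e_t]; rfl
  obtain ⟨V, hV, huV, hc⟩ := (SweepSix.mem_iff u).1 hu
  have hpV : G.t (G.e u) ∈ V := hte.symm ▸ huV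
  have hmax : (hV.primeIdealOf ⟨G.t (G.e u), hpV⟩).asIdeal.IsMaximal := by
    rw [← PrimeSpectrum.isClosed_singleton_iff_isMaximal]
    have h2 := (hV.isoSpec.hom.homeomorph.isClosedMap _ hc)
    rw [Set.image_singleton] at h2
    have hsub : (⟨G.t (G.e u), hpV⟩ : V) = ⟨u, huV⟩ := Subtype.ext hte
    rw [hsub]
    exact h2
  obtain ⟨Φ, hΦ, hΦr⟩ := exists_stabilizer_embedding G u
  obtain ⟨Z, hZ, g₀, p₀, himm, hg₀, hp₀, hcm₀, hdim₀⟩ := exists_cut_seq G.s G.t G.pU
    (G.t_over.trans G.s_over.symm) (G.e u) (hs _) (isClosed_asFiber_unit G u hu) hV hpV hmax _ Φ hΦ hΦr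
  haveI : LocallyOfFinitePresentation (pullback.snd g₀ G.t) := MorphismProperty.pullback_snd _ _ hg₀
  haveI : LocallyOfFinitePresentation (pullback.fst g₀ G.t) := MorphismProperty.pullback_fst _ _ ‹_›
  let h₀ := pullback.snd g₀ G.t ≫ G.s
  let V₀ : Z.Opens := ⟨pullback.fst g₀ G.t '' {x | MoreMor.IsCMAt h₀ x},
    (pullback.fst g₀ G.t).isOpenMap _ (CMFlatLib.isOpen_isCMAt h₀)⟩
  let z₀ := pullback.fst g₀ G.t p₀
  obtain ⟨W, hW, hzW, hWV⟩ := exists_isAffineOpen_mem_and_subset (X := Z) (x := z₀) (U := V₀) ⟨_, hcm₀, rfl⟩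
  haveI : IsAffine W.toScheme := hW
  let g := W.ι ≫ g₀
  have hgu : g ⟨z₀, hzW⟩ = u := by
    show g₀ z₀ = u
    rw [← Scheme.Hom.comp_apply, pullback.condition, Scheme.Hom.comp_apply, hp₀, hte]
  let M : pullback g G.t ⟶ pullback g₀ G.t :=
    pullback.map g G.t g₀ G.t W.ι (𝟙 G.R) (𝟙 G.U) (by simp [g]) (by simp)
  have hM : M ≫ h₀ = pullback.snd g G.t ≫ G.s := by
    simp only [M, h₀, pullback.map]
    erw [pullback.lift_snd_assoc]
    rw [Category.comp_id]
  haveI hMo : IsOpenImmersion M := inferInstance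
  have hall₀ : ∀ x, pullback.fst g₀ G.t x ∈ V₀ → MoreMor.IsCMAt h₀ x := by
    rintro x ⟨y, hy, hyx⟩
    obtain ⟨k, hk₁, hk₂⟩ := exists_grpd_squares G g₀
    obtain ⟨z, hza, hzb⟩ := Scheme.Pullback.exists_preimage_pullback
      (f := pullback.fst g₀ G.t) (g := pullback.fst g₀ G.t) y x hyx
    obtain ⟨a1, -, -⟩ := CMFlatLib.isCMAt_baseChange h₀ G.s k (pullback.fst _ _) hk₁ z (Or.inr inferInstance)
    obtain ⟨-, -, b2⟩ := CMFlatLib.isCMAt_baseChange h₀ G.t k (pullback.snd _ _) hk₂ z (Or.inr inferInstance)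
    exact hzb ▸ b2 (Flat.stalkMap _ _) (a1 (hza.symm ▸ hy))
  have hall : ∀ q, MoreMor.IsCMAt (pullback.snd g G.t ≫ G.s) q := by
    intro q
    refine isCMAt_congr hM q ((isCMAt_left_iff M h₀ q).2 (hall₀ _ ?_))
    rw [← Scheme.Hom.comp_apply, pullback.lift_fst, Scheme.Hom.comp_apply]
    exact hWV (pullback.fst g G.t q).2
  obtain ⟨p, hp1, hp2⟩ := Scheme.Pullback.exists_preimage_pullback (f := g) (g := G.t) (⟨z₀, hzW⟩ : W.toScheme) (G.e u)
    (by rw [hgu, hte])
  haveI : LocallyOfFinitePresentation g := inferInstance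
  haveI : LocallyOfFinitePresentation (pullback.snd g G.t) := MorphismProperty.pullback_snd _ _ ‹_›
  haveI h1fp : LocallyOfFinitePresentation (pullback.snd g G.t ≫ G.s) := inferInstance
  haveI h2fp : LocallyOfFinitePresentation (pullback.snd (pullback.snd g G.t ≫ G.s) g) :=
    MorphismProperty.pullback_snd _ _ h1fp
  have hall' : ∀ q, MoreMor.IsCMAt (pullback.snd (pullback.snd g G.t ≫ G.s) g) q := fun q =>
    (CMFlatLib.isCMAt_baseChange (pullback.snd g G.t ≫ G.s) g _ _ (IsPullback.of_hasPullback _ _) q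
      (Or.inr inferInstance)).1 (hall _)
  obtain ⟨e, he, hee⟩ := exists_swap G g
  refine ⟨W, inferInstance, g, ⟨z₀, hzW⟩, p, inferInstance, inferInstance, hgu, hp1, hp2, hall, h1fp, hall', h2fp,
    fun q => isCMAt_congr hee q ((isCMAt_left_iff e _ q).2 (hall' _)), hee ▸ inferInstance, le_antisymm ?_ ?_⟩
  · refine le_of_eq_of_le ?_ hdim₀
    haveI : IsImmersion (pullback.snd g₀ G.t) := MorphismProperty.pullback_snd _ _ himm
    have hMp : M p = p₀ := (pullback.snd g₀ G.t).isEmbedding.injective (by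
      rw [hp₀, ← hp2]
      exact congrArg (fun k : pullback g G.t ⟶ G.R => k p) ((pullback.lift_snd _ _ _).trans (Category.comp_id _)))
    rw [← hM, FibDimLib.fibreDimAt_comp_isOpenImmersion M h₀ p]
    exact congrArg _ hMp
  · exact stabilizer_le_fibreDimAt G g u _ hgu p hp2

end QFSectLib
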