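import Groth.Agent.FlatLib.SliceCM

/-! Slicing by a given sequence which is regular on the fibre. -/

set_option autoImplicit false
universe u

open TensorProduct RingTheory.Sequence IsLocalRing FlatLib

namespace QFSectLib

variable {R B : Type u} [CommRing R] [CommRing B] [Algebra R B] [Algebra.FinitePresentation R B]

/-- Slicing by a given sequence. -/
theorem exists_slice_of_seq (q : PrimeSpectrum B) (hflat : q ∈ flatLocus R B B)
    (hclosed : ∀ P : PrimeSpectrum B,
      P.asIdeal.comap (algebraMap R B) = q.asIdeal.comap (algebraMap R B) → q.asIdeal ≤ P.asIdeal → P = q)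
    (bs : List B) (hb : ∀ b ∈ bs, b ∈ q.asIdeal)
    (hreg : ∀ (i : ℕ) (hi : i < bs.length) (m : B),
      (∃ t ∉ q.asIdeal, t * (bs[i] * m) ∈
        Ideal.ofList (bs.take i) ⊔ (q.asIdeal.comap (algebraMap R B)).map (algebraMap R B)) →
      ∃ t ∉ q.asIdeal, t * m ∈ Ideal.ofList (bs.take i) ⊔ (q.asIdeal.comap (algebraMap R B)).map (algebraMap R B))
    (hiso : ∀ P : PrimeSpectrum B, Ideal.ofList bs ⊔ (q.asIdeal.comap (algebraMap R B)).map (algebraMap R B) ≤ P.asIdeal →
        P.asIdeal ≤ q.asIdeal → P = q) :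
    ∃ g ∉ q.asIdeal,
      ∀ (L : Type u) [CommRing L] [Algebra B L] [IsLocalization.Away g L] [Algebra R L] [IsScalarTower R B L],
        Module.Flat R (L ⧸ (Ideal.ofList bs).map (algebraMap B L)) ∧
        Algebra.QuasiFinite R (L ⧸ (Ideal.ofList bs).map (algebraMap B L)) := by
  classical
  obtain ⟨U, hUo, hqU, hUreg, hUflat⟩ := exists_open_slices q bs hb hflat hreg bs.length le_rfl
  rw [List.take_length] at hUflat
  let p : PrimeSpectrum R := PrimeSpectrum.comap (algebraMap R B) q
  let J := Ideal.ofList bs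
  let C := B ⧸ J
  haveI : Algebra.FinitePresentation R C :=
    Algebra.FinitePresentation.quotient (Submodule.fg_span (List.finite_toSet _))
  have hJq : J ≤ q.asIdeal := Ideal.span_le.mpr hb
  let mk := Ideal.Quotient.mk J
  let q₁ : PrimeSpectrum C := ⟨q.asIdeal.map mk,
    Ideal.map_isPrime_of_surjective Ideal.Quotient.mk_surjective (by rwa [Ideal.mk_ker])⟩
  have hq₁ : PrimeSpectrum.comap mk q₁ = q := PrimeSpectrum.ext (by
    show Ideal.comap mk (q.asIdeal.map mk) = q.asIdeal
    rw [Ideal.comap_map_of_surjective _ Ideal.Quotient.mk_surjective,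
      show Ideal.comap mk ⊥ = J from Ideal.mk_ker, sup_eq_left.mpr hJq])
  have hq₁p : PrimeSpectrum.comap (algebraMap R C) q₁ = p := by
    rw [show algebraMap R C = mk.comp (algebraMap R B) from rfl, PrimeSpectrum.comap_comp_apply, hq₁]
  -- separate `q` from the other points of the fibre on `V(J)`
  let F := p.asIdeal.Fiber C
  haveI : IsNoetherianRing F := Algebra.FiniteType.isNoetherianRing p.asIdeal.ResidueField F
  let E := PrimeSpectrum.preimageHomeomorphFiber R C p
  let Q₁ := E ⟨q₁, hq₁p⟩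
  have hEsymm : ∀ Q : PrimeSpectrum F, (E.symm Q).1 =
      PrimeSpectrum.comap (Algebra.TensorProduct.includeRight : C →ₐ[R] F).toRingHom Q := fun _ ↦ rfl
  have hsingle : ∀ Q : PrimeSpectrum F, Q ≤ Q₁ ∨ Q₁ ≤ Q → Q = Q₁ := fun Q hQ ↦ by
    let P := PrimeSpectrum.comap mk (E.symm Q).1
    have hPp : P.asIdeal.comap (algebraMap R B) = p.asIdeal := congrArg PrimeSpectrum.asIdeal (E.symm Q).2
    have hQ₁ : (E.symm Q₁).1 = q₁ := by rw [E.symm_apply_apply]
    have hP : P = q := by
      rcases hQ with hQ | hQ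
      · refine hiso P (sup_le ?_ (Ideal.map_le_iff_le_comap.mpr hPp.ge)) ?_
        · intro j hj
          show mk j ∈ (E.symm Q).1.asIdeal
          rw [show mk j = 0 from Ideal.Quotient.eq_zero_iff_mem.mpr hj]
          exact zero_mem _
        · show (PrimeSpectrum.comap mk (E.symm Q).1).asIdeal ≤ q.asIdeal
          rw [← hq₁, ← hQ₁, hEsymm, hEsymm]
          exact Ideal.comap_mono (Ideal.comap_mono hQ)
      · refine hclosed P hPp ?_
        show q.asIdeal ≤ (PrimeSpectrum.comap mk (E.symm Q).1).asIdeal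
        rw [← hq₁, ← hQ₁, hEsymm, hEsymm]
        exact Ideal.comap_mono (Ideal.comap_mono hQ)
    have h2 : (E.symm Q).1 = q₁ :=
      PrimeSpectrum.comap_injective_of_surjective mk Ideal.Quotient.mk_surjective (hP.trans hq₁.symm)
    exact E.symm.injective (Subtype.ext (h2.trans hQ₁.symm))
  have hopen : IsOpen ({Q₁} : Set (PrimeSpectrum F)) := by
    have hmin : Q₁.asIdeal ∈ minimalPrimes F :=
      ⟨⟨Q₁.isPrime, bot_le⟩, fun Q hQ hle ↦ (congrArg PrimeSpectrum.asIdeal (hsingle ⟨Q, hQ.1⟩ (Or.inl hle))).ge⟩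
    obtain ⟨a, ha, haQ⟩ : ∃ a, (∀ Q ∈ minimalPrimes F, Q ≠ Q₁.asIdeal → a ∈ Q) ∧ a ∉ Q₁.asIdeal := by
      have hfin := minimalPrimes.finite_of_isNoetherianRing F
      let T := hfin.toFinset.erase Q₁.asIdeal
      have : ∀ Q ∈ T, ∃ x ∈ Q, x ∉ Q₁.asIdeal := fun Q hQ ↦ by
        obtain ⟨hne, hQ⟩ := Finset.mem_erase.mp hQ
        rw [Set.Finite.mem_toFinset] at hQ
        by_contra! hle
        exact hne (hQ.1.1 |> fun hQp ↦ congrArg PrimeSpectrum.asIdeal (hsingle ⟨Q, hQp⟩ (Or.inl hle)))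
      choose! x hx hxQ using this
      refine ⟨∏ Q ∈ T, x Q, fun Q hQ hne ↦ ?_, Q₁.asIdeal.primeCompl.prod_mem fun Q hQ ↦ hxQ Q hQ⟩
      exact Ideal.prod_mem Q (Finset.mem_erase.mpr ⟨hne, hfin.mem_toFinset.mpr hQ⟩) (hx Q (Finset.mem_erase.mpr ⟨hne, hfin.mem_toFinset.mpr hQ⟩))
    convert (PrimeSpectrum.basicOpen a).2 using 1
    ext Q
    refine ⟨fun h ↦ h ▸ haQ, fun hQ ↦ ?_⟩
    haveI := Q.isPrime
    obtain ⟨Q', hQ', hle⟩ := Ideal.exists_minimalPrimes_le (bot_le : ⊥ ≤ Q.asIdeal)
    have hQ'e : Q' = Q₁.asIdeal := by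
      by_contra hne
      exact hQ (hle (ha Q' hQ' hne))
    exact hsingle Q (Or.inr (show Q₁.asIdeal ≤ Q.asIdeal from hQ'e ▸ hle))
  haveI : q₁.asIdeal.IsPrime := q₁.isPrime
  haveI hqf : Algebra.QuasiFiniteAt R q₁.asIdeal := by
    refine Algebra.QuasiFiniteAt.of_isOpen_singleton_fiber q₁ ?_
    let g : (PrimeSpectrum.comap (algebraMap R C) ⁻¹' {PrimeSpectrum.comap (algebraMap R C) q₁} :
        Set (PrimeSpectrum C)) → PrimeSpectrum F := fun z ↦ E ⟨z.1, z.2.trans hq₁p⟩
    have hg : Continuous g := E.continuous.comp (continuous_subtype_val.subtype_mk _)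
    convert hopen.preimage hg using 1
    ext z
    constructor
    · rintro rfl; rfl
    · intro h
      have h1 : E ⟨z.1, z.2.trans hq₁p⟩ = E ⟨q₁, hq₁p⟩ := h
      exact Subtype.ext (congrArg Subtype.val (E.injective h1) :)
  obtain ⟨S₀, hS₀, r, hr, hbij⟩ :=
    Algebra.QuasiFiniteAt.exists_fg_and_exists_notMem_and_awayMap_bijective (R := R) q₁.asIdeal
  haveI : Module.Finite R S₀ := ⟨(Submodule.fg_top _).mpr hS₀⟩
  haveI : Algebra.QuasiFinite R (Localization.Away r) := .trans R S₀ _
  haveI : Algebra.QuasiFinite R (Localization.Away r.1) :=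
    .of_surjective_algHom (Localization.awayMapₐ S₀.val r) hbij.2
  obtain ⟨c, hc, hcq⟩ := Ideal.exists_not_mem_forall_mem_of_ne_of_liesOver
    (q₁.asIdeal.comap (algebraMap R C)) q₁.asIdeal
  obtain ⟨b₀, hb₀⟩ := Ideal.Quotient.mk_surjective (r.1 * c)
  obtain ⟨_, ⟨h, rfl⟩, hqh, hhU⟩ := PrimeSpectrum.isTopologicalBasis_basic_opens.exists_subset_of_mem_open hqU hUo
  have hb₀q : b₀ ∉ q.asIdeal := fun hmem ↦ by
    rw [← hq₁] at hmem
    have h1 : mk b₀ ∈ q₁.asIdeal := hmem
    rw [show mk b₀ = r.1 * c from hb₀] at h1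
    exact (q₁.isPrime.mem_or_mem h1).elim hr hc
  let g := b₀ * h
  have hgq : g ∉ q.asIdeal := fun hg ↦ (q.isPrime.mem_or_mem hg).elim hb₀q hqh
  have hgU : ∀ P : PrimeSpectrum B, g ∉ P.asIdeal → P ∈ U := fun P hP ↦
    hhU fun hh ↦ hP (Ideal.mul_mem_left _ _ hh)
  refine ⟨g, hgq, fun L _ _ _ _ _ ↦ ⟨?_, ?_⟩⟩
  all_goals
    let gC : C := mk g
    haveI h3 : IsLocalization (Algebra.algebraMapSubmonoid C (Submonoid.powers g))
        (L ⧸ J.map (algebraMap B L)) := inferInstance
    haveI : IsLocalization.Away gC (L ⧸ J.map (algebraMap B L)) := by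
      show IsLocalization (Submonoid.powers gC) _
      rwa [show Algebra.algebraMapSubmonoid C (Submonoid.powers g) = Submonoid.powers gC from
        Submonoid.map_powers _ g] at h3
    haveI : IsScalarTower R C (L ⧸ J.map (algebraMap B L)) := IsScalarTower.of_algebraMap_eq fun x ↦ by
      show Ideal.Quotient.mk _ (algebraMap R L x) = Ideal.Quotient.mk _ (algebraMap B L (algebraMap R B x))
      rw [IsScalarTower.algebraMap_apply R B L]
    let e := (IsLocalization.algEquiv (Submonoid.powers gC) (Localization.Away gC)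
        (L ⧸ J.map (algebraMap B L))).restrictScalars R
  · haveI : Module.Flat R (Localization.Away gC) := flat_away_of_basicOpen gC fun Q hQ ↦ by
      replace hQ : g ∉ (PrimeSpectrum.comap mk Q).asIdeal := hQ
      refine (flat_localized_iff Q.asIdeal.primeCompl (LocalizedModule.mkLinearMap _ _)).mpr fun P _ _ N x hx ↦ ?_
      obtain ⟨t, ht, htx⟩ := (flat_localized_iff (PrimeSpectrum.comap mk Q).asIdeal.primeCompl
        (LocalizedModule.mkLinearMap _ _)).mp (hUflat _ (hgU _ hQ)) P N x hx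
      refine ⟨mk t, ht, ?_⟩
      rw [← htx]
      exact algebraMap_smul C t x
    exact Module.Flat.of_linearEquiv e.toLinearEquiv.symm
  · haveI : Algebra.QuasiFinite R (Localization.Away gC) := by
      have hu : IsUnit (algebraMap C (Localization.Away gC) r.1) := by
        have h1 : IsUnit (algebraMap C (Localization.Away gC) gC) := IsLocalization.Away.algebraMap_isUnit gC
        have h2 : IsUnit (algebraMap C (Localization.Away gC) (r.1 * c * mk h)) := by
          convert h1 using 2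
          rw [← hb₀]; exact (map_mul mk b₀ h).symm
        rw [map_mul, map_mul] at h2
        exact isUnit_of_mul_isUnit_left (isUnit_of_mul_isUnit_left h2)
      let f : Localization.Away r.1 →ₐ[C] Localization.Away gC :=
        IsLocalization.Away.liftAlgHom r.1 (f := Algebra.ofId C _) hu
      refine .of_forall_exists_mul_mem_range (f.restrictScalars R) fun x ↦ ?_
      obtain ⟨x, ⟨s, hs⟩, rfl⟩ := IsLocalization.exists_mk'_eq (Submonoid.powers gC) x
      exact ⟨algebraMap _ _ s,
        by simpa using IsLocalization.map_units (Localization.Away gC) (⟨s, hs⟩ : Submonoid.powers gC),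
        algebraMap C _ x, by simp⟩
    exact Algebra.QuasiFinite.of_surjective_algHom e.toAlgHom e.surjective

end QFSectLib
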