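import Groth.Agent.QFSectLib.RegImage
import Groth.Agent.QFSectLib.SliceSeq
import Groth.Agent.QFSectLib.FieldUnits

/-! # Slicing a closed Cohen-Macaulay point by functions of a second projection -/

set_option autoImplicit false
universe u

open TensorProduct RingTheory.Sequence IsLocalRing FlatLib

namespace QFSectLib

variable {R B A : Type u} [CommRing R] [CommRing B] [CommRing A] [Algebra R B] [Algebra.FinitePresentation R B]

/-- A generization in the fibre over a closed point of the second factor factors through a field. -/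
theorem exists_field_factor (τ : A →+* B) (m : Ideal A) [m.IsMaximal]
    (P q : PrimeSpectrum B) (hPq : P.asIdeal ≤ q.asIdeal)
    (hp : P.asIdeal.comap (algebraMap R B) = q.asIdeal.comap (algebraMap R B)) (hm : m.map τ ≤ P.asIdeal) :
    ∃ (D L : Type u) (_ : CommRing D) (_ : Field L) (ψ : B →+* D) (ι : L →+* D) (ρ : R →+* L) (σ : A →+* L)
      (x y : PrimeSpectrum D), Function.Injective ι ∧ ψ.comp (algebraMap R B) = ι.comp ρ ∧ ψ.comp τ = ι.comp σ ∧
        PrimeSpectrum.comap ψ x = P ∧ PrimeSpectrum.comap ψ y = q := by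
  let p : PrimeSpectrum R := PrimeSpectrum.comap (algebraMap R B) q
  let k := p.asIdeal.ResidueField
  let F := p.asIdeal.Fiber B
  let E := PrimeSpectrum.preimageHomeomorphFiber R B p
  let iB : B →ₐ[R] F := Algebra.TensorProduct.includeRight
  let P' := E ⟨P, PrimeSpectrum.ext hp⟩
  let Q' := E ⟨q, rfl⟩
  let D := F ⧸ P'.asIdeal
  let mkD : F →+* D := Ideal.Quotient.mk P'.asIdeal
  have hP' : PrimeSpectrum.comap iB.toRingHom P' = P := congrArg Subtype.val (E.symm_apply_apply ⟨P, _⟩)
  have hQ' : PrimeSpectrum.comap iB.toRingHom Q' = q := congrArg Subtype.val (E.symm_apply_apply ⟨q, _⟩)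
  let φ : (A ⧸ m) →+* D := Ideal.Quotient.lift m (mkD.comp (iB.toRingHom.comp τ))
    fun a ha => by
      refine Ideal.Quotient.eq_zero_iff_mem.2 ?_
      have h1 : τ a ∈ P.asIdeal := hm (Ideal.mem_map_of_mem τ ha)
      rw [← hP'] at h1
      exact h1
  letI : Field (A ⧸ m) := Ideal.Quotient.field m
  haveI : Algebra.FiniteType k D := Algebra.FiniteType.trans (S := F) inferInstance inferInstance
  obtain ⟨L, iL, ι, ρ, σ, hι, hρ, hσ⟩ := exists_field_hom (k := k) (D := D) φ
  have hsp : P' ⤳ Q' := by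
    refine Specializes.map ?_ E.continuous
    rw [subtype_specializes_iff]
    exact (PrimeSpectrum.le_iff_specializes P q).1 hPq
  have hle := (PrimeSpectrum.le_iff_specializes _ _).2 hsp
  have hlift : ∀ Z : PrimeSpectrum F, P'.asIdeal ≤ Z.asIdeal → Z ∈ Set.range (PrimeSpectrum.comap (R := F) (S := D) mkD) := by
    intro Z hZ
    rw [range_comap_of_surjective _ _ Ideal.Quotient.mk_surjective, Ideal.mk_ker]
    exact hZ
  obtain ⟨x, hx⟩ := hlift P' le_rfl
  obtain ⟨y, hy⟩ := hlift Q' hle
  refine ⟨D, L, inferInstance, iL, mkD.comp iB.toRingHom, ι, ρ.comp (algebraMap R k),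
    σ.comp (Ideal.Quotient.mk m), x, y, hι, ?_, ?_, ?_, ?_⟩
  · refine RingHom.ext fun r => ?_
    show mkD (iB (algebraMap R B r)) = ι (ρ (algebraMap R k r))
    rw [iB.commutes, IsScalarTower.algebraMap_apply R k F]
    exact (RingHom.congr_fun hρ _).symm
  · exact RingHom.ext fun a => (RingHom.congr_fun hσ (Ideal.Quotient.mk m a)).symm
  · rw [PrimeSpectrum.comap_comp_apply, hx, hP']
  · rw [PrimeSpectrum.comap_comp_apply, hy, hQ']

theorem exists_slice_image_aux {L : Type u} [CommRing L] [Algebra B L] [IsLocalRing L] (τ : A →+* B)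
    (m : Ideal A) (q : PrimeSpectrum B) [IsLocalization.AtPrime L q.asIdeal] (hqm : m.map τ ≤ q.asIdeal)
    (pB : Ideal B) (I : Ideal L) (hI : I = pB.map (algebraMap B L))
    [IsNoetherianRing (L ⧸ I)] [IsLocalRing (L ⧸ I)] (hcm : CommAlgDim.IsCM (L ⧸ I))
    (hiso : ∀ P : PrimeSpectrum B, m.map τ ⊔ pB ≤ P.asIdeal → P.asIdeal ≤ q.asIdeal → P = q) :
    ∃ as : List A, (∀ a ∈ as, a ∈ m) ∧
      (∀ (i : ℕ) (hi : i < (as.map τ).length) (x : B),
        (∃ t ∉ q.asIdeal, t * ((as.map τ)[i] * x) ∈ Ideal.ofList ((as.map τ).take i) ⊔ pB) →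
        ∃ t ∉ q.asIdeal, t * x ∈ Ideal.ofList ((as.map τ).take i) ⊔ pB) ∧
      ∀ P : PrimeSpectrum B, Ideal.ofList (as.map τ) ⊔ pB ≤ P.asIdeal → P.asIdeal ≤ q.asIdeal → P = q := by
  classical
  let G := L ⧸ I
  let π : B →+* G := (Ideal.Quotient.mk I).comp (algebraMap B L)
  have hπ : ∀ (J : Ideal B) (x : B), π x ∈ J.map π ↔ ∃ t ∉ q.asIdeal, t * x ∈ J ⊔ pB := by
    intro J x
    rw [show J.map π = (J.map (algebraMap B L)).map (Ideal.Quotient.mk I) from (Ideal.map_map _ _).symm,
      ← Ideal.mem_comap, ← Ideal.comap_comap, Ideal.comap_map_of_surjective _ Ideal.Quotient.mk_surjective,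
      show Ideal.comap (Ideal.Quotient.mk I) ⊥ = I from Ideal.mk_ker, hI, ← Ideal.map_sup, Ideal.mem_comap,
      IsLocalization.algebraMap_mem_map_algebraMap_iff q.asIdeal.primeCompl]
    rfl
  have hLq : Ideal.comap (algebraMap B L) (maximalIdeal L) = q.asIdeal := IsLocalization.AtPrime.under_maximalIdeal L q.asIdeal
  have hI_le : I ≤ maximalIdeal L := IsLocalRing.le_maximalIdeal fun h => by
    haveI : Subsingleton G := Ideal.Quotient.subsingleton_iff.2 h
    exact false_of_nontrivial_of_subsingleton G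
  have hmax : (maximalIdeal L).map (Ideal.Quotient.mk I) = maximalIdeal G := (GorLib.maximalIdeal_quotient I).symm
  have hmG : m.map (π.comp τ) ≤ maximalIdeal G := by
    rw [← hmax, ← Ideal.map_map, ← Ideal.map_map]
    refine Ideal.map_mono (Ideal.map_le_iff_le_comap.2 ?_)
    rw [hLq]
    exact hqm
  have back : ∀ (J : Ideal B), (∀ P : PrimeSpectrum B, J ⊔ pB ≤ P.asIdeal → P.asIdeal ≤ q.asIdeal → P = q) ↔
      ∀ P : Ideal G, P.IsPrime → J.map π ≤ P → P = maximalIdeal G := by
    intro J
    constructor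
    · intro h P hP hle
      haveI := hP
      let PB : PrimeSpectrum B := PrimeSpectrum.comap π ⟨P, hP⟩
      have h1 : PB = q := by
        refine h PB (sup_le (Ideal.map_le_iff_le_comap.1 hle) fun x hx => ?_) ?_
        · show π x ∈ P
          rw [show π x = 0 from Ideal.Quotient.eq_zero_iff_mem.2 (hI ▸ Ideal.mem_map_of_mem _ hx)]
          exact P.zero_mem
        · show Ideal.comap π P ≤ q.asIdeal
          rw [← hLq, ← Ideal.comap_comap]
          exact Ideal.comap_mono (IsLocalRing.le_maximalIdeal (Ideal.IsPrime.comap _).ne_top)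
      have h2 : (P.comap (Ideal.Quotient.mk I)) = maximalIdeal L := by
        rw [← IsLocalization.map_under q.asIdeal.primeCompl L (P.comap (Ideal.Quotient.mk I)),
          ← IsLocalization.map_under q.asIdeal.primeCompl L (maximalIdeal L)]
        congr 1
        exact (congrArg PrimeSpectrum.asIdeal h1).trans hLq.symm
      rw [← hmax, ← h2, Ideal.map_comap_of_surjective _ Ideal.Quotient.mk_surjective]
    · intro h P hP hPq
      let PL : Ideal L := P.asIdeal.map (algebraMap B L)
      have hdisj : Disjoint (q.asIdeal.primeCompl : Set B) P.asIdeal :=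
        Set.disjoint_left.mpr fun x hx hxP ↦ hx (hPq hxP)
      haveI hPL : PL.IsPrime := IsLocalization.isPrime_of_isPrime_disjoint q.asIdeal.primeCompl L _ P.isPrime hdisj
      have hIPL : I ≤ PL := by
        rw [hI]
        exact Ideal.map_mono (le_sup_right.trans hP)
      haveI : (PL.map (Ideal.Quotient.mk I)).IsPrime :=
        Ideal.map_isPrime_of_surjective Ideal.Quotient.mk_surjective (by rwa [Ideal.mk_ker])
      have h3 := h (PL.map (Ideal.Quotient.mk I)) inferInstance (by
        rw [← Ideal.map_map]; exact Ideal.map_mono (Ideal.map_mono (le_sup_left.trans hP)))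
      have h4 : PL = maximalIdeal L := by
        have e : ∀ K : Ideal L, I ≤ K → (K.map (Ideal.Quotient.mk I)).comap (Ideal.Quotient.mk I) = K := fun K hK => by
          rw [Ideal.comap_map_of_surjective _ Ideal.Quotient.mk_surjective,
            show Ideal.comap (Ideal.Quotient.mk I) ⊥ = I from Ideal.mk_ker, sup_eq_left.mpr hK]
        rw [← e PL hIPL, h3, ← hmax, e _ hI_le]
      refine PrimeSpectrum.ext ?_
      rw [← IsLocalization.under_map_of_isPrime_disjoint q.asIdeal.primeCompl L P.isPrime hdisj]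
      show Ideal.comap (algebraMap B L) PL = _
      rw [h4, hLq]
  obtain ⟨d, hd⟩ := CommAlgDim.exists_ringKrullDim_eq (R := G)
  obtain ⟨as, has, hreg, hz⟩ := exists_regular_image m d G (π.comp τ) hcm hd.le hmG
    (fun P hP hle => (back (m.map τ)).1 hiso P hP (by rw [Ideal.map_map]; exact hle))
  have hmapi : ∀ i, (Ideal.ofList ((as.map τ).take i)).map π = Ideal.ofList ((as.map (π.comp τ)).take i) := fun i ↦ by
    rw [Ideal.map_ofList, List.map_take, List.map_map]
    rfl
  refine ⟨as, has, fun i hi x hx ↦ ?_, (back _).2 ?_⟩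
  · have hi' : i < (as.map (π.comp τ)).length := by simpa using hi
    rw [← hπ] at hx ⊢
    rw [hmapi] at hx ⊢
    have hw := (isWeaklyRegular_iff G _).mp hreg i hi'
    have h0 : (Submodule.Quotient.mk (π x) : G ⧸ (Ideal.ofList ((as.map (π.comp τ)).take i) • (⊤ : Submodule G G))) = 0 := by
      refine hw (Eq.trans ?_ (smul_zero _).symm)
      show (as.map (π.comp τ))[i] • Submodule.Quotient.mk (π x) = _
      rw [← Submodule.Quotient.mk_smul, Submodule.Quotient.mk_eq_zero, Ideal.smul_eq_mul, Ideal.mul_top,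
        smul_eq_mul, List.getElem_map, RingHom.comp_apply, ← map_mul]
      simpa using hx
    rwa [Submodule.Quotient.mk_eq_zero, Ideal.smul_eq_mul, Ideal.mul_top] at h0
  · intro P hP hle
    refine hz P hP ?_
    rwa [Ideal.map_ofList, List.map_map] at hle

/-- Slicing at a closed Cohen-Macaulay point of a fibre by functions coming from a second projection. -/
theorem exists_slice_image [Module.Flat R B] (τ : A →+* B) (m : Ideal A) [m.IsMaximal] (q : PrimeSpectrum B)
    (hqm : m.map τ ≤ q.asIdeal)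
    (hsep : ∀ (D L : Type u) [CommRing D] [Field L] (ψ : B →+* D) (ι : L →+* D) (ρ : R →+* L) (σ : A →+* L)
      (x y : PrimeSpectrum D), Function.Injective ι → ψ.comp (algebraMap R B) = ι.comp ρ → ψ.comp τ = ι.comp σ →
      PrimeSpectrum.comap ψ y = q → (PrimeSpectrum.comap ψ x).asIdeal ≤ q.asIdeal → PrimeSpectrum.comap ψ x = q)
    (hclosed : ∀ P : PrimeSpectrum B,
      P.asIdeal.comap (algebraMap R B) = q.asIdeal.comap (algebraMap R B) → q.asIdeal ≤ P.asIdeal → P = q)
    [IsNoetherianRing (Localization.AtPrime q.asIdeal ⧸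
      (q.asIdeal.comap (algebraMap R B)).map (algebraMap R (Localization.AtPrime q.asIdeal)))]
    [IsLocalRing (Localization.AtPrime q.asIdeal ⧸
      (q.asIdeal.comap (algebraMap R B)).map (algebraMap R (Localization.AtPrime q.asIdeal)))]
    (hcm : CommAlgDim.IsCM (Localization.AtPrime q.asIdeal ⧸
      (q.asIdeal.comap (algebraMap R B)).map (algebraMap R (Localization.AtPrime q.asIdeal)))) :
    ∃ as : List A, (∀ a ∈ as, a ∈ m) ∧ ∃ g ∉ q.asIdeal,
      ∀ (L : Type u) [CommRing L] [Algebra B L] [IsLocalization.Away g L] [Algebra R L] [IsScalarTower R B L],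
        Module.Flat R (L ⧸ (Ideal.ofList (as.map τ)).map (algebraMap B L)) ∧
        Algebra.QuasiFinite R (L ⧸ (Ideal.ofList (as.map τ)).map (algebraMap B L)) := by
  obtain ⟨as, has, hreg, hiso⟩ := exists_slice_image_aux τ m q hqm
    ((q.asIdeal.comap (algebraMap R B)).map (algebraMap R B)) _ (by rw [Ideal.map_map, ← IsScalarTower.algebraMap_eq]) hcm
    (fun P hP hPq => by
      obtain ⟨D, L, _, _, ψ, ι, ρ, σ, x, y, hι, h1, h2, hx, hy⟩ := exists_field_factor τ m P q hPq
        (le_antisymm (Ideal.comap_mono hPq) (Ideal.map_le_iff_le_comap.1 (le_sup_right.trans hP)))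
        (le_sup_left.trans hP)
      exact hx ▸ hsep D L ψ ι ρ σ x y hι h1 h2 hy (hx ▸ hPq))
  refine ⟨as, has, exists_slice_of_seq q ?_ hclosed (as.map τ) (fun b hb => ?_) hreg hiso⟩
  · haveI : Module.Flat R (LocalizedModule q.asIdeal.primeCompl B) :=
      Module.Flat.trans R B (LocalizedModule q.asIdeal.primeCompl B)
    exact this
  · obtain ⟨a, ha, rfl⟩ := List.mem_map.1 hb
    exact hqm (Ideal.mem_map_of_mem τ (has a ha))

end QFSectLib
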